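import Groth.Agent.BlowUpCoh.Inv
import Groth.Agent.Coherent.ProjFormula
import Groth.Agent.Coherent.RpushComp
import Groth.Agent.Coherent.ModExt
import Groth.Agent.CohCmpLib.Edge
import Groth.Agent.DCat.Acyclic

/-!
# Finite locally free modules and their pullback to a blowing up
-/

set_option autoImplicit false
set_option backward.isDefEq.respectTransparency.types false
set_option linter.style.haveILetI false

universe u

open CategoryTheory CategoryTheory.Limits AlgebraicGeometry TopologicalSpace Opposite
open Groth.Agent.Coherent Groth.Agent.PicLib Groth.Agent.AmpleLib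

namespace Groth.Agent.BlowUpCoh

variable {X Y : Scheme.{u}} (f : X ⟶ Y) {E : Y.Modules} (hE : FlatMod.IsFinLocFree E)

include hE in
/-- When the structure sheaves agree, a finite locally free module is the direct image of its pullback. -/
theorem isIso_unit_of_locFree [IsIso (StMod.unitMap f)] :
    IsIso ((Scheme.Modules.pullbackPushforwardAdjunction f).unit.app E) := by
  refine TwistLib.G.isIso_of_bijective_on_basis _
    (fun B => ∃ (n : ℕ) (e : ULift.{u} (Fin n) → Γ(E, B)), IsBasisOn E B e) (fun V y hy => ?_) ?_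
  · obtain ⟨U, n, e, hyU, hUV, he⟩ := exists_basis_nhd hE y V hy
    exact ⟨U, ⟨n, e, he⟩, hyU, hUV⟩
  · rintro B ⟨n, e, he⟩
    have hb : Function.Bijective ((StMod.unitMap f).app B) := ConcreteCategory.bijective_of_isIso _
    have h1 := he (le_refl B)
    have h2 := (IsBasisOn.pull f he) (le_refl (f ⁻¹ᵁ B))
    let c : (ULift.{u} (Fin n) → Γ(Y, B)) → (ULift.{u} (Fin n) → Γ(X, f ⁻¹ᵁ B)) :=
      fun a i => (f.app B).hom (a i)
    have hc : Function.Bijective c :=
      ⟨fun a b h => funext fun i => hb.1 (congrFun h i), fun d =>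
        ⟨fun i => (hb.2 (d i)).choose, funext fun i => (hb.2 (d i)).choose_spec⟩⟩
    refine (Function.Bijective.of_comp_iff _ h1).1 ?_
    refine (congrArg Function.Bijective (funext fun a => ?_)).mpr (h2.comp hc)
    refine (map_sum (((Scheme.Modules.pullbackPushforwardAdjunction f).unit.app E).app B).hom _
      Finset.univ).trans (Finset.sum_congr rfl fun i _ => ?_)
    refine (pullSec_smul f (a i) (resM E le_rfl (e i))).trans ?_
    exact congrArg ((f.app B).hom (a i) • ·) (resM_pullSec f le_rfl (e i)).symm

include hE in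
/-- When the higher direct images of the structure sheaf vanish, so do those of the pullback of a finite
locally free module. -/
theorem isZero_rpushAb_pullback (p : ℕ)
    (h : IsZero ((Coh.RpushAb f p).obj (Coh.toAb (Coh.structureModule X)))) :
    IsZero ((Coh.RpushAb f p).obj (Coh.toAb ((Scheme.Modules.pullback f).obj E))) := by
  haveI : IsGrothendieckAbelian.{u} X.Modules := DCat.schemeModules_isGrothendieckAbelian X
  haveI : EnoughInjectives X.Modules := inferInstance
  haveI : HasInjectiveResolutions X.Modules := inferInstance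
  obtain ⟨e⟩ := nonempty_projection_formula (f := f) hE (Coh.structureModule X) p
  have h0 : IsZero ((Coh.Rpush f p).obj (Coh.structureModule X)) := by
    rw [IsZero.iff_id_eq_zero]
    exact (toAbFunctor Y).map_injective
      (((h.of_iso (toAbRpushIso f (Coh.structureModule X) p)).eq_of_src _ _))
  haveI := preservesFiniteLimits_tensE hE
  have h1 : IsZero ((Coh.Rpush f p).obj
      (CohB1.tensorMod ((Scheme.Modules.pullback f).obj E) (Coh.structureModule X))) :=
    ((tensE E).map_isZero h0).of_iso e.symm
  have h2 : IsZero ((Coh.Rpush f p).obj ((Scheme.Modules.pullback f).obj E)) :=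
    h1.of_iso ((Coh.Rpush f p).mapIso (tensorComm _ _ ≪≫ unitTensorIso _).symm)
  exact ((toAbFunctor Y).map_isZero h2).of_iso (toAbRpushIso f _ p).symm

/-- Vanishing of the higher direct image of an abelian sheaf gives that of the module one. -/
theorem isZero_rpush_of_rpushAb [HasInjectiveResolutions X.Modules] {M : X.Modules} {p : ℕ}
    (h : IsZero ((Coh.RpushAb f p).obj (Coh.toAb M))) : IsZero ((Coh.Rpush f p).obj M) := by
  rw [IsZero.iff_id_eq_zero]
  exact (toAbFunctor Y).map_injective ((h.of_iso (toAbRpushIso f M p)).eq_of_src _ _)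

/-- The unit and the vanishing pass to a cokernel whose pullback sequence stays exact. -/
theorem unit_and_vanishing_of_shortExact (T : ShortComplex Y.Modules) (hT : T.ShortExact)
    (hpull : (T.map (Scheme.Modules.pullback f)).ShortExact)
    [IsIso ((Scheme.Modules.pullbackPushforwardAdjunction f).unit.app T.X₁)]
    [IsIso ((Scheme.Modules.pullbackPushforwardAdjunction f).unit.app T.X₂)]
    (h₁ : ∀ p : ℕ, 1 ≤ p → IsZero ((Coh.RpushAb f p).obj (Coh.toAb ((Scheme.Modules.pullback f).obj T.X₁))))
    (h₂ : ∀ p : ℕ, 1 ≤ p → IsZero ((Coh.RpushAb f p).obj (Coh.toAb ((Scheme.Modules.pullback f).obj T.X₂)))) :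
    IsIso ((Scheme.Modules.pullbackPushforwardAdjunction f).unit.app T.X₃) ∧
    ∀ p : ℕ, 1 ≤ p → IsZero ((Coh.RpushAb f p).obj (Coh.toAb ((Scheme.Modules.pullback f).obj T.X₃))) := by
  haveI : IsGrothendieckAbelian.{u} X.Modules := DCat.schemeModules_isGrothendieckAbelian X
  haveI : EnoughInjectives X.Modules := inferInstance
  haveI : HasInjectiveResolutions X.Modules := inferInstance
  haveI : PreservesLimitsOfSize.{0, 0} (Scheme.Modules.pushforward f) :=
    (Scheme.Modules.pullbackPushforwardAdjunction f).rightAdjoint_preservesLimits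
  refine ⟨?_, fun p hp => ?_⟩
  · have hP := CohCmpLib.shortExact_push_of_isZero f hpull (isZero_rpush_of_rpushAb f (h₁ 1 le_rfl))
    let P := (T.map (Scheme.Modules.pullback f)).map (Scheme.Modules.pushforward f)
    let u₁ : T.X₁ ≅ P.X₁ := (asIso ((Scheme.Modules.pullbackPushforwardAdjunction f).unit.app T.X₁) :)
    let u₂ : T.X₂ ≅ P.X₂ := (asIso ((Scheme.Modules.pullbackPushforwardAdjunction f).unit.app T.X₂) :)
    let u₃ : T.X₃ ⟶ P.X₃ := (Scheme.Modules.pullbackPushforwardAdjunction f).unit.app T.X₃
    show IsIso u₃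
    have e₁ : T.f ≫ u₂.hom = u₁.hom ≫ P.f :=
      (Scheme.Modules.pullbackPushforwardAdjunction f).unit.naturality T.f
    have e₂ : T.g ≫ u₃ = u₂.hom ≫ P.g :=
      (Scheme.Modules.pullbackPushforwardAdjunction f).unit.naturality T.g
    haveI : Epi P.g := hP.epi_g
    haveI : Epi T.g := hT.epi_g
    have hz : P.f ≫ u₂.inv ≫ T.g = 0 := by
      have : P.f ≫ u₂.inv = u₁.inv ≫ T.f := by
        rw [Iso.comp_inv_eq, Category.assoc, e₁, Iso.inv_hom_id_assoc]
      rw [reassoc_of% this, T.zero, comp_zero]
    let r : P.X₃ ⟶ T.X₃ := hP.gIsCokernel.desc (CokernelCofork.ofπ _ hz)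
    have hr : P.g ≫ r = u₂.inv ≫ T.g :=
      hP.gIsCokernel.fac (CokernelCofork.ofπ _ hz) WalkingParallelPair.one
    refine ⟨r, ?_, ?_⟩
    · rw [← cancel_epi T.g, reassoc_of% e₂, hr, Iso.hom_inv_id_assoc, Category.comp_id]
    · refine (cancel_epi P.g).1 ?_
      rw [reassoc_of% hr, e₂, Iso.inv_hom_id_assoc]
      exact (Category.comp_id _).symm
  · have := DCat.Acyclic.isZero_rightDerived_X₃ (F := Scheme.Modules.pushforward f) hpull p
      (isZero_rpush_of_rpushAb f (h₂ p hp)) (isZero_rpush_of_rpushAb f (h₁ (p + 1) (by omega)))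
    exact ((toAbFunctor Y).map_isZero this).of_iso (toAbRpushIso f _ p).symm

end Groth.Agent.BlowUpCoh
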