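import Groth.Agent.BlowUpCoh.Exact
import Groth.Agent.BlowUpKoszul.Relations
import Groth.Agent.SDiv28.Charts
import Groth.Agent.BlowUpLib.Proper

/-!
# The intersections of the charts of a blowing up inside `A[1 / ∏ f]`
-/

set_option autoImplicit false
set_option backward.isDefEq.respectTransparency.types false

universe u

open CategoryTheory Limits AlgebraicGeometry TopologicalSpace
open Groth.Agent.BlowUpLib Groth.Agent.CAlgH.KoszulRegular
open Groth.Agent.ModPairLib (res_res ideal_restrict)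

namespace Groth.Agent.BlowUpCoh

variable {X X' : Scheme.{u}} [IsAffine X] {I : X.IdealSheafData} (b : X' ⟶ X)
  {n : ℕ} (f : Fin (n + 1) → Γ(X, ⊤))

variable (X) in
/-- The whole of an affine scheme. -/
abbrev topAff : X.affineOpens := ⟨⊤, isAffineOpen_top X⟩

variable (I) in
/-- The chart where `f k` generates. -/
noncomputable abbrev chartW (k : Fin (n + 1)) : X'.Opens := locus I b (topAff X) (f k)

/-- The morphism attached to an algebra over the functions of an affine scheme. -/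
noncomputable def pt (T : Type u) [CommRing T] [Algebra Γ(X, ⊤) T] : Spec (CommRingCat.of T) ⟶ X :=
  Spec.map (CommRingCat.ofHom (algebraMap Γ(X, ⊤) T)) ≫ (topAff X).2.fromSpec

theorem pt_appLE (T : Type u) [CommRing T] [Algebra Γ(X, ⊤) T]
    (e : (⊤ : (Spec (CommRingCat.of T)).Opens) ≤ pt (X := X) T ⁻¹ᵁ ⊤) :
    (pt (X := X) T).appLE ⊤ ⊤ e =
      CommRingCat.ofHom (algebraMap Γ(X, ⊤) T) ≫ (Scheme.ΓSpecIso (CommRingCat.of T)).inv :=
  (fromSpec_comp_appLE (U := topAff X) _ e).trans (Scheme.ΓSpecIso_inv_naturality _).symm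

theorem pt_naturality {T T' : Type u} [CommRing T] [CommRing T'] [Algebra Γ(X, ⊤) T] [Algebra Γ(X, ⊤) T']
    (g : T →ₐ[Γ(X, ⊤)] T') : Spec.map (CommRingCat.ofHom g.toRingHom) ≫ pt (X := X) T = pt T' := by
  rw [pt, pt, ← Category.assoc, ← Spec.map_comp, ← CommRingCat.ofHom_comp]
  congr 3
  exact g.comp_algebraMap

theorem isEff_pt (T : Type u) [CommRing T] [Algebra Γ(X, ⊤) T] {a : Γ(X, ⊤)} (ha : a ∈ I.ideal (topAff X))
    (hu : IsUnit (algebraMap Γ(X, ⊤) T a)) :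
    (I.comap (pt (X := X) T)).ideal ⟨⊤, isAffineOpen_top _⟩ = Ideal.span {((pt (X := X) T).appLE ⊤ ⊤ le_top).hom a} ∧
      BlowUp.IsEffCartierIdeal (I.comap (pt (X := X) T)) := by
  have hu' : IsUnit (((pt (X := X) T).appLE ⊤ ⊤ le_top).hom a) := by
    rw [pt_appLE]
    exact hu.map (Scheme.ΓSpecIso (CommRingCat.of T)).inv.hom
  have e : (I.comap (pt (X := X) T)).ideal ⟨⊤, isAffineOpen_top _⟩ =
      Ideal.span {((pt (X := X) T).appLE ⊤ ⊤ le_top).hom a} := by
    rw [Ideal.span_singleton_eq_top.2 hu', Ideal.eq_top_iff_one]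
    obtain ⟨v, hv⟩ := hu'.exists_left_inv
    rw [← hv]
    exact Ideal.mul_mem_left _ _ (ProjLib.map_ideal_le_comap_ideal I _ (topAff X) ⟨⊤, isAffineOpen_top _⟩ le_top
      (Ideal.mem_map_of_mem _ ha))
  exact ⟨e, fun z => ⟨⟨⊤, isAffineOpen_top _⟩, trivial, _, hu'.mem_nonZeroDivisors, e⟩⟩

variable (hb : BlowUp.IsBlowUp b I) (hspan : I.ideal (topAff X) = Ideal.span (Set.range f))

include hspan in
theorem f_mem (k : Fin (n + 1)) : f k ∈ I.ideal (topAff X) := hspan.ge (Ideal.subset_span ⟨k, rfl⟩)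

include hb hspan in
theorem iSup_chartW : ⨆ k, chartW I b f k = ⊤ := by
  refine top_le_iff.1 fun y _ => ?_
  obtain ⟨_, ⟨k, rfl⟩, hy⟩ := exists_mem_locus b hb.1 (topAff X) (show y ∈ b ⁻¹ᵁ ⊤ from trivial) (Set.range f) hspan.symm
  exact Opens.mem_iSup.2 ⟨k, hy⟩

include hb hspan in
theorem exists_lift (T : Type u) [CommRing T] [Algebra Γ(X, ⊤) T] (k : Fin (n + 1))
    (hk : IsUnit (algebraMap Γ(X, ⊤) T (f k))) :
    ∃ g : Spec (CommRingCat.of T) ⟶ X', g ≫ b = pt T :=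
  (hb.2 _ _ (isEff_pt T (f_mem f hspan k) hk).2).exists

include hb hspan in
theorem lift_mem (T : Type u) [CommRing T] [Algebra Γ(X, ⊤) T] {g : Spec (CommRingCat.of T) ⟶ X'}
    (hg : g ≫ b = pt T) (k : Fin (n + 1)) (hk : IsUnit (algebraMap Γ(X, ⊤) T (f k))) :
    g ⁻¹ᵁ chartW I b f k = ⊤ := by
  rw [chartW, preimage_locus (f_mem f hspan k) b hb.1 g (by rw [hg]; exact (isEff_pt T (f_mem f hspan k) hk).2), hg]
  exact top_le_iff.1 fun _ _ => mem_locus.2 ⟨⟨⊤, isAffineOpen_top _⟩, trivial, le_top,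
    (isEff_pt T (f_mem f hspan k) hk).1⟩

/-- Intersection of the charts of a tuple. -/
noncomputable def WI (I : X.IdealSheafData) {q : ℕ} (s : Fin (q + 1) → Fin (n + 1)) : X'.Opens :=
  ⨅ i, chartW I b f (s i)

/-- The point of `X'` given by `A[1 / ∏ f]`. -/
noncomputable def qpt {q : ℕ} (s : Fin (q + 1) → Fin (n + 1)) : Spec (CommRingCat.of (Af f s)) ⟶ X' :=
  (exists_lift b f hb hspan (Af f s) (s 0) (unitsOn_Af f s _ (mem_img.2 ⟨0, rfl⟩))).choose

theorem qpt_comp {q : ℕ} (s : Fin (q + 1) → Fin (n + 1)) : qpt b f hb hspan s ≫ b = pt (Af f s) :=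
  (exists_lift b f hb hspan (Af f s) (s 0) (unitsOn_Af f s _ (mem_img.2 ⟨0, rfl⟩))).choose_spec

include hb hspan in
theorem qpt_le {q : ℕ} (s : Fin (q + 1) → Fin (n + 1)) :
    (⊤ : (Spec (CommRingCat.of (Af f s))).Opens) ≤ qpt b f hb hspan s ⁻¹ᵁ WI b f I s := fun z _ => by
  show qpt b f hb hspan s z ∈ WI b f I s
  rw [WI, ← SetLike.mem_coe, Opens.coe_iInf]
  refine Set.mem_iInter.2 fun i => ?_
  exact (lift_mem b f hb hspan _ (qpt_comp b f hb hspan s) (s i)
    (unitsOn_Af f s _ (mem_img.2 ⟨i, rfl⟩))).ge (trivial : z ∈ (⊤ : (Spec (CommRingCat.of (Af f s))).Opens))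

/-- Functions on the intersection of charts as elements of `A[1 / ∏ f]`. -/
noncomputable def rho {q : ℕ} (s : Fin (q + 1) → Fin (n + 1)) : Γ(X', WI b f I s) →+* Af f s :=
  ((qpt b f hb hspan s).appLE (WI b f I s) ⊤ (qpt_le b f hb hspan s) ≫
    (Scheme.ΓSpecIso (CommRingCat.of (Af f s))).hom).hom

theorem rho_appLE {q : ℕ} (s : Fin (q + 1) → Fin (n + 1)) (a : Γ(X, ⊤)) :
    rho b f hb hspan s ((b.appLE ⊤ (WI b f I s) le_top).hom a) = algebraMap Γ(X, ⊤) (Af f s) a := by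
  refine ConcreteCategory.congr_hom (?_ : b.appLE ⊤ (WI b f I s) le_top ≫
    (qpt b f hb hspan s).appLE (WI b f I s) ⊤ (qpt_le b f hb hspan s) ≫
      (Scheme.ΓSpecIso (CommRingCat.of (Af f s))).hom = CommRingCat.ofHom (algebraMap Γ(X, ⊤) (Af f s))) a
  rw [← Category.assoc, Scheme.Hom.appLE_comp_appLE]
  simp_rw [qpt_comp b f hb hspan s]
  rw [pt_appLE, Category.assoc, Iso.inv_hom_id, Category.comp_id]

/-- Maps between the rings of two tuples. -/
noncomputable def resTo {p q : ℕ} (t : Fin p → Fin (n + 1)) (s : Fin q → Fin (n + 1)) (h : img t ⊆ img s) :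
    Af f t →ₐ[Γ(X, ⊤)] Af f s :=
  IsLocalization.liftAlgHom (M := Submonoid.powers (∏ j, f (t j))) (f := Algebra.ofId Γ(X, ⊤) (Af f s)) (by
    rintro ⟨_, e, rfl⟩
    rw [Algebra.ofId_apply, map_pow, map_prod]
    exact (IsUnit.prod_univ_iff.2 fun j => unitsOn_Af f s _ (h (mem_img.2 ⟨j, rfl⟩))).pow e)

theorem res_eq_resTo {q : ℕ} (s : Fin (q + 1) → Fin (n + 1)) (i : Fin (q + 1)) :
    res f s i = resTo f (s ∘ i.succAbove) s (img_comp_subset s i) :=
  have := IsLocalization.algHom_subsingleton (R := Γ(X, ⊤)) (S := Af f (s ∘ i.succAbove)) (P := Af f s)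
    (Submonoid.powers (∏ j, f ((s ∘ i.succAbove) j)))
  Subsingleton.elim _ _

theorem WI_anti {p q : ℕ} (t : Fin (p + 1) → Fin (n + 1)) (s : Fin (q + 1) → Fin (n + 1)) (h : img t ⊆ img s) :
    WI b f I s ≤ WI b f I t := le_iInf fun j => by
  obtain ⟨i, hi⟩ := mem_img.1 (h (mem_img.2 ⟨j, rfl⟩))
  exact (iInf_le _ i).trans (by rw [hi])

theorem rho_natural {p q : ℕ} (t : Fin (p + 1) → Fin (n + 1)) (s : Fin (q + 1) → Fin (n + 1))
    (h : img t ⊆ img s) (x : Γ(X', WI b f I t)) :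
    resTo f t s h (rho b f hb hspan t x) =
      rho b f hb hspan s ((X'.presheaf.map (homOfLE (WI_anti b f (I := I) t s h)).op).hom x) := by
  have hq : Spec.map (CommRingCat.ofHom (resTo f t s h).toRingHom) ≫ qpt b f hb hspan t = qpt b f hb hspan s := by
    refine SDiv28.hom_ext hb ?_ ?_
    · rw [Category.assoc, qpt_comp, pt_naturality]
      exact (isEff_pt _ (f_mem f hspan (s 0)) (unitsOn_Af f s _ (mem_img.2 ⟨0, rfl⟩))).2
    · rw [Category.assoc, qpt_comp, qpt_comp, pt_naturality]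
  refine ConcreteCategory.congr_hom (?_ :
    (qpt b f hb hspan t).appLE (WI b f I t) ⊤ (qpt_le b f hb hspan t) ≫
      (Scheme.ΓSpecIso (CommRingCat.of (Af f t))).hom ≫ CommRingCat.ofHom (resTo f t s h).toRingHom =
    X'.presheaf.map (homOfLE (WI_anti b f (I := I) t s h)).op ≫
      (qpt b f hb hspan s).appLE (WI b f I s) ⊤ (qpt_le b f hb hspan s) ≫
      (Scheme.ΓSpecIso (CommRingCat.of (Af f s))).hom) x
  rw [← Scheme.ΓSpecIso_naturality, Scheme.Hom.map_appLE_assoc, ← Category.assoc]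
  congr 1
  simp_rw [← hq]
  rw [← Scheme.Hom.appLE_comp_appLE _ _ _ ⊤ ⊤ (qpt_le b f hb hspan t) le_top]
  congr 1

section Chart

variable (k : Fin (n + 1))

include hb hspan in
/-- The functions on a chart. -/
theorem exists_chartRingEquiv :
    ∃ ψ : ChartRing I (topAff X) (f k) ≃+* Γ(X', chartW I b f k),
      ∀ a, ψ (algebraMap Γ(X, ⊤) _ a) = (b.appLE ⊤ (chartW I b f k) le_top).hom a := by
  obtain ⟨e, he⟩ := SDiv28.exists_locus_iso hb (topAff X) (f_mem f hspan k)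
  refine ⟨((Scheme.ΓSpecIso (CommRingCat.of (ChartRing I (topAff X) (f k)))).symm ≪≫
    Scheme.Γ.mapIso e.op ≪≫ (chartW I b f k).topIso).commRingCatIsoToRingEquiv, fun a => ?_⟩
  refine ConcreteCategory.congr_hom (?_ : CommRingCat.ofHom (algebraMap Γ(X, ⊤) (ChartRing I (topAff X) (f k))) ≫
    (Scheme.ΓSpecIso (CommRingCat.of (ChartRing I (topAff X) (f k)))).inv ≫ e.hom.appTop ≫
      (chartW I b f k).topIso.hom = b.appLE ⊤ (chartW I b f k) le_top) a
  have h : (chartMap I (topAff X) (f k)).appLE ⊤ ⊤ le_top =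
      CommRingCat.ofHom (algebraMap Γ(X, ⊤) (ChartRing I (topAff X) (f k))) ≫
        (Scheme.ΓSpecIso (CommRingCat.of (ChartRing I (topAff X) (f k)))).inv :=
    chartMap_appLE (I := I) (U := topAff X) (a := f k) le_top
  rw [← Category.assoc, ← h, ← Category.assoc,
    show e.hom.appTop = e.hom.appLE ⊤ ⊤ le_top by simp [Scheme.Hom.appLE]; exact (Category.comp_id _).symm,
    Scheme.Hom.appLE_comp_appLE]
  simp_rw [he]
  simp [Scheme.Hom.appLE, Scheme.Opens.topIso_hom]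
  erw [Category.id_comp, ← Functor.map_comp]
  rfl

include hb hspan in
theorem isAffineOpen_chartW : IsAffineOpen (chartW I b f k) := by
  obtain ⟨e, -⟩ := SDiv28.exists_locus_iso hb (topAff X) (f_mem f hspan k)
  exact IsAffine.of_isIso e.hom

end Chart

end Groth.Agent.BlowUpCoh
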