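import Groth.Agent.BlowUpCoh.IdealPush
import Groth.Agent.VarietyLib.PushEuler
import Groth.Agent.MorProj.OmegaAffine

/-!
# Euler characteristics of twisted powers of the exceptional ideal
-/

set_option autoImplicit false
set_option backward.isDefEq.respectTransparency.types false
set_option linter.style.haveILetI false

universe u

open CategoryTheory CategoryTheory.Limits AlgebraicGeometry TopologicalSpace Opposite
open Groth.Agent.Coherent Groth.Agent.PicLib Groth.Agent.AmpleLib

namespace Groth.Agent.BlowUpCoh

variable {X Y : Scheme.{u}} (f : X ⟶ Y)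

/-- Vanishing of higher direct images passes to twists by finite locally free modules of the base. -/
theorem isZero_rpushAb_tensor_pullback {E : Y.Modules} (hE : FlatMod.IsFinLocFree E) (M : X.Modules) (p : ℕ)
    (h : IsZero ((Coh.RpushAb f p).obj (Coh.toAb M))) :
    IsZero ((Coh.RpushAb f p).obj (Coh.toAb (CohB1.tensorMod ((Scheme.Modules.pullback f).obj E) M))) := by
  haveI : IsGrothendieckAbelian.{u} X.Modules := DCat.schemeModules_isGrothendieckAbelian X
  haveI : EnoughInjectives X.Modules := inferInstance
  haveI : HasInjectiveResolutions X.Modules := inferInstance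
  obtain ⟨e⟩ := nonempty_projection_formula (f := f) hE M p
  haveI := preservesFiniteLimits_tensE hE
  exact ((toAbFunctor Y).map_isZero (((tensE E).map_isZero (isZero_rpush_of_rpushAb f h)).of_iso e.symm)).of_iso
    (toAbRpushIso f _ p).symm

variable (k : Type u) [Field k] {X' : Scheme.{u}} [Y.Over (Spec (CommRingCat.of k))]
  [X'.Over (Spec (CommRingCat.of k))] {b : X' ⟶ Y} {I : Y.IdealSheafData} (hb : BlowUp.IsBlowUp b I) {c : ℕ}
  (hI : KoszulBasis I c)

include hb hI in
/-- The Euler characteristic of a twisted power of the exceptional ideal is computed on the base. -/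
theorem euler_twist_idealPow (hk : b ≫ (Y ↘ Spec (CommRingCat.of k)) = X' ↘ Spec (CommRingCat.of k))
    {L : Y.Modules} (hL : PicF.IsInvertible L) (m : ℕ) :
    Curv2.euler k X' (CohB1.tensorMod ((Scheme.Modules.pullback b).obj L) (ClSub.idealMod ((I.comap b) ^ m))) =
      Curv2.euler k Y (CohB1.tensorMod L (ClSub.idealMod (I ^ m))) := by
  haveI := Groth.Agent.BlowUpLib.isProper_of_isBlowUp hb (isFiniteType_of_koszulBasis hI)
  haveI := MorProj.isQCoh_idealMod ((I.comap b) ^ m)
  obtain ⟨T⟩ := exists_twistPow (I.comap b) m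
  have hLF : FlatMod.IsFinLocFree L := fun x =>
    let ⟨U, hx, e⟩ := PicLib.isFinLocFreeOfRank_one hL x; ⟨U, 1, hx, e⟩
  haveI : Coh.IsQCoh (CohB1.tensorMod ((Scheme.Modules.pullback b).obj L) (ClSub.idealMod ((I.comap b) ^ m))) :=
    haveI := isQCoh_of_isInvertible (PicLoc.isInvertible_pullback b hL)
    isQCoh_tensorMod _ _
  rw [VarietyLib.euler_push_of_acyclic b k hk _ (VarietyLib.acyclicOverBasis_of_isZero b _ fun p hp =>
    isZero_rpushAb_tensor_pullback b hLF _ p (isZero_rpushAb hb hI T (by omega) p hp))]
  obtain ⟨e⟩ := nonempty_pushforward_idealPow hb hI m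
  exact EulerLib.euler_congr k Y (((projIso (f := b) hLF).app _).symm ≪≫ (tensE L).mapIso e)

end Groth.Agent.BlowUpCoh
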