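import Groth.Agent.BlowUpCoh.Universal

/-!
# Evaluating Laurent monomials at a sequence
-/

set_option autoImplicit false

universe u

open Finset

namespace Groth.Agent.BlowUpCoh

variable {A : Type u} [CommRing A] {r : ℕ} (f : Fin r → A) (T : Type u) [CommRing T] [Algebra A T]

/-- One factor of the value of a monomial. -/
noncomputable def fpow1 (j : Fin r) (e : ℤ) : T :=
  algebraMap A T (f j) ^ e.toNat * Ring.inverse (algebraMap A T (f j)) ^ (-e).toNat

/-- The value of a monomial at `f`. -/
noncomputable def fpow (a : Fin r → ℤ) : T := ∏ j, fpow1 f T j (a j)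

theorem fpow1_add {j : Fin r} {x y : ℤ} (h : (0 ≤ x ∧ 0 ≤ y) ∨ IsUnit (algebraMap A T (f j))) :
    fpow1 f T j (x + y) = fpow1 f T j x * fpow1 f T j y := by
  rcases h with ⟨hx, hy⟩ | hu
  · simp [fpow1, Int.toNat_eq_zero.2 (neg_nonpos.2 hx), Int.toNat_eq_zero.2 (neg_nonpos.2 hy),
      show (-y + -x).toNat = 0 by omega, Int.toNat_add hx hy, pow_add]
  · obtain ⟨w, hw⟩ := hu
    have key : ∀ e : ℤ, fpow1 f T j e = ((w ^ e : Tˣ) : T) := fun e => by
      rw [fpow1, ← hw, Ring.inverse_unit, ← Units.val_pow_eq_pow_val, ← Units.val_pow_eq_pow_val,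
        ← Units.val_mul]
      congr 1
      rw [← zpow_natCast, ← zpow_natCast, ← zpow_neg_one, ← zpow_mul, ← zpow_add]
      congr 1
      omega
    rw [key, key, key, zpow_add, Units.val_mul]

theorem fpow_zero : fpow f T 0 = 1 := by simp [fpow, fpow1]

theorem fpow_add {a b : Fin r → ℤ}
    (h : ∀ j, (0 ≤ a j ∧ 0 ≤ b j) ∨ IsUnit (algebraMap A T (f j))) :
    fpow f T (a + b) = fpow f T a * fpow f T b := by
  rw [fpow, fpow, fpow, ← Finset.prod_mul_distrib]
  exact Finset.prod_congr rfl fun j _ => fpow1_add f T (h j)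

theorem fpow_single (l : Fin r) (n : ℕ) : fpow f T (Pi.single l (n : ℤ)) = algebraMap A T (f l) ^ n := by
  rw [fpow, Finset.prod_eq_single l]
  · simp [fpow1]
  · intro j _ hj
    simp [fpow1, hj]
  · simp

theorem fpow_natCast (c : Fin r → ℕ) :
    fpow f T (fun j => (c j : ℤ)) = algebraMap A T (∏ j, f j ^ c j) := by
  rw [fpow, map_prod]
  exact Finset.prod_congr rfl fun j _ => by simp [fpow1]

/-- Evaluation of Laurent polynomials. -/
noncomputable def phi : Laurent A r →ₗ[A] T :=
  Finsupp.linearCombination A (fpow f T) ∘ₗ (AddMonoidAlgebra.coeffLinearEquiv A).toLinearMap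

theorem phi_single (a : Fin r → ℤ) (c : A) : phi f T (AddMonoidAlgebra.single a c) = c • fpow f T a := by
  simp [phi, AddMonoidAlgebra.coeffLinearEquiv]

theorem phi_mon (a : Fin r → ℤ) : phi f T (mon a) = fpow f T a := by rw [phi_single, one_smul]

theorem phi_one : phi f T (1 : Laurent A r) = 1 := by
  rw [AddMonoidAlgebra.one_def, phi_single, fpow_zero, one_smul]

/-- The chart `σ` makes sense in `T`. -/
def UnitsOn (σ : Finset (Fin r)) : Prop := ∀ j ∈ σ, IsUnit (algebraMap A T (f j))

variable {f T}

theorem of_mem_span {σ : Finset (Fin r)} {m : ℤ} {x : Laurent A r}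
    (h : x ∈ Submodule.span A ((fun a => mon a) '' expSet σ m)) : x ∈ U σ m :=
  (AddMonoidAlgebra.supported_eq_span_single (R := A) (s := expSet σ m)).ge h

theorem phi_mul {σ : Finset (Fin r)} (hσ : UnitsOn f T σ) {m m' : ℤ} {x y : Laurent A r}
    (hx : x ∈ U σ m) (hy : y ∈ U σ m') : phi f T (x * y) = phi f T x * phi f T y := by
  have hx' : x ∈ Submodule.span A ((fun a => mon a) '' expSet σ m) :=
    (AddMonoidAlgebra.supported_eq_span_single (R := A) (s := expSet σ m)).le hx
  have hy' : y ∈ Submodule.span A ((fun a => mon a) '' expSet σ m') :=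
    (AddMonoidAlgebra.supported_eq_span_single (R := A) (s := expSet σ m')).le hy
  induction hx' using Submodule.span_induction with
  | mem z hz =>
    obtain ⟨a, ha, rfl⟩ := hz
    clear hx
    induction hy' using Submodule.span_induction with
    | mem z hz =>
      obtain ⟨b, hb, rfl⟩ := hz
      rw [AddMonoidAlgebra.single_mul_single, one_mul, phi_mon, phi_mon, phi_mon]
      refine fpow_add f T fun j => ?_
      by_cases hj : j ∈ σ
      · exact Or.inr (hσ j hj)
      · exact Or.inl ⟨ha.1 j hj, hb.1 j hj⟩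
    | zero => simp
    | add y y' h h' ih ih' =>
      rw [mul_add, map_add, map_add, ih (of_mem_span h),
        ih' (of_mem_span h'), mul_add]
    | smul c y h ih =>
      rw [mul_smul_comm, map_smul, map_smul, ih (of_mem_span h), mul_smul_comm]
  | zero => simp
  | add z z' h h' ih ih' =>
    rw [add_mul, map_add, map_add, ih (of_mem_span h),
      ih' (of_mem_span h'), add_mul]
  | smul c z h ih =>
    rw [smul_mul_assoc, map_smul, map_smul, ih (of_mem_span h), smul_mul_assoc]

theorem phi_smul {σ : Finset (Fin r)} (hσ : UnitsOn f T σ) {m : ℤ} (p : MvPolynomial (Fin r) A)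
    {x : Laurent A r} (hx : x ∈ U σ m) :
    phi f T (p • x) = algebraMap A T (MvPolynomial.eval f p) * phi f T x := by
  induction p using MvPolynomial.induction_on generalizing x with
  | C c =>
    rw [Algebra.smul_def, algebraMap_C, ← Algebra.smul_def, map_smul, MvPolynomial.eval_C, Algebra.smul_def]
  | add p q hp hq => rw [add_smul, map_add, hp hx, hq hx, map_add, map_add, add_mul]
  | mul_X p l hp =>
    rw [mul_smul, X_smul, hp (by
      rw [← X_smul]; exact Submodule.smul_mem _ _ hx), phi_mul hσ (mon_mem_U (single_mem_expSet σ l)) hx,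
      map_mul, map_mul, MvPolynomial.eval_X, mul_assoc]
    congr 1
    have h1 := fpow_single f T l 1
    rw [Nat.cast_one, pow_one] at h1
    rw [phi_mon, h1]

/-- Compatibility with a change of rings. -/
theorem map_phi {T' : Type u} [CommRing T'] [Algebra A T'] (g : T →ₐ[A] T') {σ : Finset (Fin r)}
    (hσ : UnitsOn f T σ) {m : ℤ} {x : Laurent A r} (hx : x ∈ U σ m) :
    g (phi f T x) = phi f T' x := by
  have hx' : x ∈ Submodule.span A ((fun a => mon a) '' expSet σ m) :=
    (AddMonoidAlgebra.supported_eq_span_single (R := A) (s := expSet σ m)).le hx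
  clear hx
  induction hx' using Submodule.span_induction with
  | mem z hz =>
    obtain ⟨a, ha, rfl⟩ := hz
    rw [phi_mon, phi_mon, fpow, fpow, map_prod]
    refine Finset.prod_congr rfl fun j _ => ?_
    rw [fpow1, fpow1, map_mul, map_pow, map_pow, AlgHom.commutes]
    by_cases hj : 0 ≤ a j
    · simp [Int.toNat_eq_zero.2 (neg_nonpos.2 hj)]
    · obtain ⟨w, hw⟩ := hσ j (by_contra fun h => hj (ha.1 j h))
      rw [← hw, Ring.inverse_unit, ← g.commutes (f j), ← hw]
      congr 2
      exact ((Ring.inverse_unit (Units.map (g : T →* T') w))).symm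
  | zero => simp
  | add z z' h h' ih ih' => rw [map_add, map_add, ih, ih', map_add]
  | smul c z h ih => rw [map_smul, map_smul, ih, map_smul]

end Groth.Agent.BlowUpCoh
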