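import Groth.Agent.BlowUpCoh.Kernel

/-!
# The Čech complex of a blowing up in a Koszul regular sequence is exact

For a Koszul regular sequence `f` the sections of the `m`-th power of the exceptional ideal over an
intersection of charts are spanned in `A[1 / ∏ f]` by the monomials in `f`; their Čech complex is exact
for `m ≥ -n`.
-/

set_option autoImplicit false
set_option backward.isDefEq.respectTransparency false
set_option maxSynthPendingDepth 3

universe u

open Finset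
open Groth.Agent.CAlgH.KoszulRegular

namespace Groth.Agent.BlowUpCoh

variable {A : Type u} [CommRing A] {n : ℕ} (f : Fin (n + 1) → A)

/-- The ring `A[1 / ∏ f]` of a tuple. -/
abbrev Af {q : ℕ} (s : Fin q → Fin (n + 1)) : Type u := Localization.Away (∏ i, f (s i))

theorem unitsOn_Af {q : ℕ} (s : Fin q → Fin (n + 1)) : UnitsOn f (Af f s) (img s) := fun j hj => by
  obtain ⟨i, rfl⟩ := mem_img.1 hj
  exact isUnit_of_dvd_unit (map_dvd _ (Finset.dvd_prod_of_mem (fun i => f (s i)) (Finset.mem_univ i)))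
    (IsLocalization.Away.algebraMap_isUnit _)

/-- The map to the ring of a bigger tuple. -/
noncomputable def res {q : ℕ} (s : Fin (q + 1) → Fin (n + 1)) (i : Fin (q + 1)) :
    Af f (s ∘ i.succAbove) →ₐ[A] Af f s :=
  IsLocalization.liftAlgHom (M := Submonoid.powers (∏ j, f ((s ∘ i.succAbove) j))) (f := Algebra.ofId A (Af f s)) (by
    rintro ⟨_, e, rfl⟩
    rw [Algebra.ofId_apply, map_pow, map_prod]
    exact (IsUnit.prod_univ_iff.2 fun j => unitsOn_Af f s _ (mem_img.2 ⟨i.succAbove j, rfl⟩)).pow e)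

/-- The sections of the `m`-th power over a tuple. -/
noncomputable def D (m : ℤ) {q : ℕ} (s : Fin q → Fin (n + 1)) : Submodule A (Af f s) :=
  Submodule.map (phi f (Af f s))
    ((U (img s) m : Submodule (MvPolynomial (Fin (n + 1)) A) (Laurent A (n + 1))).restrictScalars A)

theorem phi_mem_D {m : ℤ} {q : ℕ} {s : Fin q → Fin (n + 1)} {x : Laurent A (n + 1)} (hx : x ∈ U (img s) m) :
    phi f (Af f s) x ∈ D f m s :=
  ⟨x, hx, rfl⟩

theorem res_phi {m : ℤ} {q : ℕ} (s : Fin (q + 1) → Fin (n + 1)) (i : Fin (q + 1)) {x : Laurent A (n + 1)}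
    (hx : x ∈ U (img (s ∘ i.succAbove)) m) :
    res f s i (phi f _ x) = phi f (Af f s) x :=
  map_phi (res f s i) (unitsOn_Af f _) hx

theorem res_mem_D {m : ℤ} {q : ℕ} (s : Fin (q + 1) → Fin (n + 1)) (i : Fin (q + 1))
    {c : Af f (s ∘ i.succAbove)} (hc : c ∈ D f m (s ∘ i.succAbove)) : res f s i c ∈ D f m s := by
  obtain ⟨x, hx, rfl⟩ := hc
  rw [res_phi f s i hx]
  exact phi_mem_D f (U_mono (img_comp_subset s i) m hx)

/-- The Čech differential. -/
noncomputable def dA (q : ℕ) (c : ∀ s : Fin q → Fin (n + 1), Af f s) (s : Fin (q + 1) → Fin (n + 1)) : Af f s :=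
  ∑ i : Fin (q + 1), ((-1 : ℤ) ^ (i : ℕ)) • res f s i (c (s ∘ i.succAbove))

theorem dA_phi {m : ℤ} (q : ℕ) (c : ↥(Cu A (n + 1) m q)) (s : Fin (q + 1) → Fin (n + 1)) :
    dA f q (fun t => phi f _ (c.1 t)) s = phi f _ ((dC m q c).1 s) := by
  rw [coe_dC, dL_apply, map_sum, dA]
  refine Finset.sum_congr rfl fun i _ => ?_
  rw [map_zsmul, res_phi f s i (mem_Cu.1 c.2 _)]

/-- The cochains of one degree as a product. -/
noncomputable def cuEquiv (m : ℤ) (q : ℕ) :
    (∀ s : Fin q → Fin (n + 1), ↥(U (img s) m : Submodule (MvPolynomial (Fin (n + 1)) A) _)) ≃ₗ[MvPolynomial (Fin (n + 1)) A]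
      ↥(Cu A (n + 1) m q) where
  toFun x := ⟨fun s => (x s).1, mem_Cu.2 fun s => (x s).2⟩
  invFun c s := ⟨c.1 s, mem_Cu.1 c.2 s⟩
  map_add' _ _ := rfl
  map_smul' _ _ := rfl
  left_inv _ := rfl
  right_inv _ := rfl

variable (hf : KReg f)
include hf

theorem mem_smul_top_of_phi {m : ℤ} {q : ℕ} (z : ↥(Cu A (n + 1) m (q + 1)))
    (hz : ∀ s, phi f (Af f s) (z.1 s) = 0) :
    z ∈ Ideal.span (Set.range (xR f)) • (⊤ : Submodule (MvPolynomial (Fin (n + 1)) A) ↥(Cu A (n + 1) m (q + 1))) := by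
  classical
  let y := (cuEquiv m (q + 1)).symm z
  have hy : ∀ s, y s ∈ Ideal.span (Set.range (xR f)) • (⊤ : Submodule (MvPolynomial (Fin (n + 1)) A) _) :=
    fun s => mem_smul_of_phi f s hf (Af f s) m (y s) (hz s)
  have hmem : y ∈ Ideal.span (Set.range (xR f)) • (⊤ : Submodule (MvPolynomial (Fin (n + 1)) A) _) := by
    rw [← Finset.univ_sum_single y]
    refine sum_mem fun s _ => ?_
    have h := Submodule.mem_map_of_mem
      (f := LinearMap.single (MvPolynomial (Fin (n + 1)) A)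
        (fun s : Fin (q + 1) → Fin (n + 1) => ↥(U (img s) m : Submodule (MvPolynomial (Fin (n + 1)) A) _)) s) (hy s)
    rw [Submodule.map_smul''] at h
    exact Submodule.smul_mono le_rfl le_top h
  have h := Submodule.mem_map_of_mem (f := (cuEquiv (A := A) (n := n) m (q + 1)).toLinearMap) hmem
  rw [Submodule.map_smul''] at h
  rw [← (cuEquiv m (q + 1)).apply_symm_apply z]
  exact Submodule.smul_mono le_rfl le_top h

omit hf in
theorem phi_eq_zero_of_mem_smul {m : ℤ} {q : ℕ} {z : ↥(Cu A (n + 1) m q)}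
    (hz : z ∈ Ideal.span (Set.range (xR f)) • (⊤ : Submodule (MvPolynomial (Fin (n + 1)) A) ↥(Cu A (n + 1) m q)))
    (s : Fin q → Fin (n + 1)) : phi f (Af f s) (z.1 s) = 0 := by
  induction hz using Submodule.smul_induction_on' with
  | smul p hp y _ =>
    rw [Submodule.coe_smul, Pi.smul_apply, phi_smul (unitsOn_Af f s) p (mem_Cu.1 y.2 s)]
    have h0 : MvPolynomial.eval f p = 0 := by
      refine (Ideal.span_le (I := RingHom.ker (MvPolynomial.eval f))).2 ?_ hp
      rintro _ ⟨l, rfl⟩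
      simp [xR, RingHom.mem_ker]
    rw [h0, map_zero, zero_mul]
  | add a _ b _ ha hb => rw [Submodule.coe_add, Pi.add_apply, map_add, ha, hb, add_zero]

theorem kRegOn_Cu (m : ℤ) (q : ℕ) : Groth.Agent.BlowUpCoh.KRegOn (xR f) ↥(Cu A (n + 1) m (q + 1)) :=
  KRegOn.of_equiv _ (cuEquiv m (q + 1)) (kRegOn_pi _ _ fun s => kRegOn_U f s hf m)

/-- Exactness of the Čech complex in positive degrees. -/
theorem exists_dA_eq {m : ℤ} (hm : -(n : ℤ) ≤ m) {q : ℕ} (c : ∀ s : Fin (q + 1) → Fin (n + 1), Af f s)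
    (hc : ∀ s, c s ∈ D f m s) (hd : ∀ w, dA f (q + 1) c w = 0) :
    ∃ y : ∀ t : Fin q → Fin (n + 1), Af f t, (∀ t, y t ∈ D f m t) ∧ ∀ s, dA f q y s = c s := by
  choose x hx hxc using hc
  let z : ↥(Cu A (n + 1) m (q + 1)) := ⟨x, mem_Cu.2 hx⟩
  have hdz : dC m (q + 1) z ∈ Ideal.span (Set.range (xR f)) •
      (⊤ : Submodule (MvPolynomial (Fin (n + 1)) A) ↥(Cu A (n + 1) m (q + 2))) := by
    refine mem_smul_top_of_phi f hf _ fun w => ?_
    rw [← dA_phi f (q + 1) z w, show (fun t => phi f (Af f t) (z.1 t)) = c from funext hxc, hd]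
  obtain ⟨y, hy⟩ := exists_preimage_mod (xR f) (fun q => ↥(Cu A (n + 1) m q)) (dC m) injective_dC_zero
    (exact_dC hm) (kRegOn_Cu f hf m) q z hdz
  refine ⟨fun t => phi f _ (y.1 t), fun t => phi_mem_D f (mem_Cu.1 y.2 t), fun s => ?_⟩
  rw [dA_phi f q y s, ← hxc s]
  have h := phi_eq_zero_of_mem_smul f hy s
  rw [Submodule.coe_sub, Pi.sub_apply, map_sub, sub_eq_zero] at h
  exact h.symm

/-- The augmentation is injective. -/
theorem eq_zero_of_dA_zero {m : ℤ} (hm : -(n : ℤ) ≤ m) (c : ∀ t : Fin 0 → Fin (n + 1), Af f t)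
    (hc : ∀ t, c t ∈ D f m t) (hd : ∀ s, dA f 0 c s = 0) (t : Fin 0 → Fin (n + 1)) : c t = 0 := by
  choose x hx hxc using hc
  let z : ↥(Cu A (n + 1) m 0) := ⟨x, mem_Cu.2 hx⟩
  have hdz : dC m 0 z ∈ Ideal.span (Set.range (xR f)) •
      (⊤ : Submodule (MvPolynomial (Fin (n + 1)) A) ↥(Cu A (n + 1) m 1)) := by
    refine mem_smul_top_of_phi f hf _ fun w => ?_
    rw [← dA_phi f 0 z w, show (fun t => phi f (Af f t) (z.1 t)) = c from funext hxc, hd]
  have h := mem_smul_zero (xR f) (fun q => ↥(Cu A (n + 1) m q)) (dC m) injective_dC_zero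
    (exact_dC hm) (kRegOn_Cu f hf m) z hdz
  rw [← hxc t]
  exact phi_eq_zero_of_mem_smul f h t

omit hf in
/-- In nonpositive degrees the augmentation is the ground ring. -/
theorem D_zero_eq_top {m : ℤ} (hm : m ≤ 0) (t : Fin 0 → Fin (n + 1)) : D f m t = ⊤ := by
  refine eq_top_iff.2 fun z _ => ?_
  obtain ⟨a, ⟨_, e, rfl⟩, hz⟩ := IsLocalization.exists_mk'_eq (Submonoid.powers (∏ i, f (t i))) z
  have h : (a • (1 : Laurent A (n + 1))) ∈ U (img t) m := by
    refine Submodule.smul_mem ((U (img t) m).restrictScalars A) a ?_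
    rw [AddMonoidAlgebra.one_def]
    exact mon_mem_U ⟨fun _ _ => le_rfl, by simpa using hm⟩
  refine ⟨a • (1 : Laurent A (n + 1)), h, ?_⟩
  rw [map_smul, phi_one, ← hz, Algebra.smul_def, mul_one, IsLocalization.eq_mk'_iff_mul_eq, ← map_mul]
  simp

end Groth.Agent.BlowUpCoh
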