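import Groth.Agent.BlowUpCoh.LocFree
import Groth.Agent.Coherent.ClosedEquiv
import Groth.Agent.Coherent.QcohOps
import Groth.Agent.CohCmpLib.AffineBase
import Groth.Agent.EGA43.InjFibre.Scheme
import Groth.Agent.PicLib.BasisOn

/-!
# Restriction of a twist to the divisor of an effective Cartier ideal
-/

set_option autoImplicit false
set_option backward.isDefEq.respectTransparency.types false
set_option linter.style.haveILetI false

universe u

open CategoryTheory CategoryTheory.Limits AlgebraicGeometry TopologicalSpace Opposite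
open Groth.Agent.Coherent Groth.Agent.PicLib Groth.Agent.AmpleLib

namespace Groth.Agent.BlowUpCoh

local notation "rs" => Groth.Agent.ModPairLib.res

variable {Y : Scheme.{u}} {J : Y.IdealSheafData} {M : Y.Modules} {m : ℤ}

/-- A section giving a basis on every affine open below is a generator. -/
theorem isGen_of_affine {U : Y.Opens} {e : Γ(M, U)}
    (h : ∀ (V : Y.affineOpens) (hle : V.1 ≤ U), Function.Bijective fun r : Γ(Y, V.1) => r • resM M hle e) :
    IsGen M U e := by
  have inj : ∀ (V : Y.Opens) (hV : V ≤ U), Function.Injective fun r : Γ(Y, V) => r • resM M hV e := by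
    intro V hV r r' hrr
    refine sec_ext (Coh.structureModule Y) _ _ fun y hy => ?_
    obtain ⟨W, hW, hyW, hWV⟩ := Opens.isBasis_iff_nbhd.mp Y.isBasis_affineOpens hy
    refine ⟨W, hWV, hyW, (h ⟨W, hW⟩ (hWV.trans hV)).1 ?_⟩
    have h2 := congrArg (resM M hWV) hrr
    simp only [resM_smul, resM_resM] at h2
    exact h2
  intro V hV
  refine ⟨inj V hV, fun x => ?_⟩
  let ι : Type u := {W : Y.affineOpens // W.1 ≤ V}
  let W : ι → Y.Opens := fun i => i.1.1
  have hc : ∀ i : ι, ∃ c : Γ(Y, W i), c • resM M (i.2.trans hV) e = resM M i.2 x :=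
    fun i => (h i.1 (i.2.trans hV)).2 _
  choose c hc using hc
  have hcov : V ≤ iSup W := fun y hy => by
    obtain ⟨O, hO, hyO, hOV⟩ := Opens.isBasis_iff_nbhd.mp Y.isBasis_affineOpens hy
    exact Opens.mem_iSup.2 ⟨⟨⟨O, hO⟩, hOV⟩, hyO⟩
  obtain ⟨r, hr⟩ : ∃ r : Γ(Y, V), ∀ i, Y.presheaf.map (homOfLE i.2).op r = c i :=
    (TopCat.Sheaf.existsUnique_gluing' Y.sheaf W V (fun i => homOfLE i.2) hcov c fun i j => by
    refine inj (W i ⊓ W j) (inf_le_left.trans (i.2.trans hV)) ?_
    have hi := congrArg (resM M (inf_le_left : W i ⊓ W j ≤ W i)) (hc i)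
    have hj := congrArg (resM M (inf_le_right : W i ⊓ W j ≤ W j)) (hc j)
    simp only [resM_smul, resM_resM] at hi hj ⊢
    exact hi.trans hj.symm).exists
  refine ⟨(r : Γ(Y, V)), sec_ext M _ _ fun y hy => ?_⟩
  obtain ⟨i, hi⟩ := Opens.mem_iSup.1 (hcov hy)
  refine ⟨W i, i.2, hi, ?_⟩
  show resM M i.2 ((r : Γ(Y, V)) • resM M hV e) = _
  rw [resM_smul, resM_resM, hr i, hc i]

/-- Where the ideal has a regular generator, the preimage of `1` generates the twist. -/
theorem TwistData.isGen (T : TwistData J M m) {W : Y.affineOpens} {a : Γ(Y, W.1)}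
    (ha : J.ideal W = Ideal.span {a}) (hn : a ∈ nonZeroDivisors Γ(Y, W.1)) {e : Γ(M, W.1)}
    (he : T.toFun W a e = 1) : IsGen M W.1 e := by
  refine isGen_of_affine fun V hle => ?_
  have ha' := ModPairLib.ideal_restrict J hle ha
  have hn' := ModPairLib.res_mem_nonZeroDivisors hle hn
  refine (Function.Bijective.of_comp_iff' (T.bij V _ ha' hn') _).1 ?_
  refine (congrArg Function.Bijective (funext fun r => ?_)).mpr Function.bijective_id
  show T.toFun V (rs hle a) (r • resM M hle e) = r
  rw [T.smul V _ r _ ha' hn', ← T.natural W V hle a e ha hn, he, map_one, mul_one]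

/-- A section of a twist restricts to zero on the divisor iff its coordinate lies in the ideal. -/
theorem clUnit_app_eq_zero_iff (T : TwistData J M m) {W : Y.affineOpens} {a : Γ(Y, W.1)}
    (ha : J.ideal W = Ideal.span {a}) (hn : a ∈ nonZeroDivisors Γ(Y, W.1)) (x : Γ(M, W.1)) :
    (clUnit J.subschemeι M).app W.1 x = 0 ↔ T.toFun W a x ∈ J.ideal W := by
  obtain ⟨e, he⟩ := (T.bij W a ha hn).2 1
  have hg : IsGen M W.1 e := T.isGen ha hn he
  have hbasis : IsBasisOn M W.1 (fun _ : PUnit.{u + 1} => e) := by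
    intro V hV
    refine (congrArg Function.Bijective (funext fun c => ?_)).mpr
      ((hg V hV).comp (Equiv.funUnique PUnit Γ(Y, V)).bijective)
    show ∑ i, c i • resM M hV e = _
    rw [Fintype.sum_unique]
    rfl
  have hp := (IsBasisOn.pull J.subschemeι hbasis) (le_refl _)
  have hx : x = T.toFun W a x • e := by
    refine (T.bij W a ha hn).1 ?_
    rw [T.smul W a _ _ ha hn, he, mul_one]
  rw [← J.ker_subschemeι_app W, RingHom.mem_ker]
  conv_lhs => rw [hx]
  show pullSec J.subschemeι (T.toFun W a x • e) = 0 ↔ _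
  rw [pullSec_smul]
  constructor
  · intro h
    refine congrFun (hp.1 (a₁ := fun _ => J.subschemeι.app W.1 (T.toFun W a x)) (a₂ := fun _ => 0) ?_) PUnit.unit
    simp only [Fintype.sum_unique, zero_smul, resM_self]
    exact h
  · intro h
    refine (congrArg (· • pullSec J.subschemeι e) h).trans (zero_smul _ _)

/-- The kernel of the restriction of a twist to the divisor is the next twist. -/
theorem exists_twist_kernel (T : TwistData J M m) :
    Nonempty (TwistData J (kernel (clUnit J.subschemeι M)) (m + 1)) := by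
  classical
  let ι := kernel.ι (clUnit J.subschemeι M)
  have hex : ∀ (W : Y.affineOpens) (a : Γ(Y, W.1)), J.ideal W = Ideal.span {a} → a ∈ nonZeroDivisors Γ(Y, W.1) →
      ∀ x : Γ(kernel (clUnit J.subschemeι M), W.1), ∃ t : Γ(Y, W.1), t * a = T.toFun W a (ι.app W.1 x) :=
    fun W a ha hn x => by
    have h : T.toFun W a (ι.app W.1 x) ∈ J.ideal W :=
      (clUnit_app_eq_zero_iff T ha hn _).1 (kernel_ι_app_zero (clUnit J.subschemeι M) W.1 x)
    rw [ha] at h
    exact Ideal.mem_span_singleton'.1 h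
  let F : ∀ (W : Y.affineOpens), Γ(Y, W.1) → Γ(kernel (clUnit J.subschemeι M), W.1) →+ Γ(Y, W.1) := fun W a =>
    if h : J.ideal W = Ideal.span {a} ∧ a ∈ nonZeroDivisors Γ(Y, W.1) then
      AddMonoidHom.mk' (fun x => (hex W a h.1 h.2 x).choose) fun x y => by
        refine (mul_cancel_right_mem_nonZeroDivisors h.2).1 ?_
        rw [(hex W a h.1 h.2 (x + y)).choose_spec, add_mul, (hex W a h.1 h.2 x).choose_spec,
          (hex W a h.1 h.2 y).choose_spec, ← map_add, ← map_add]
    else 0
  have hF : ∀ W a, J.ideal W = Ideal.span {a} → a ∈ nonZeroDivisors Γ(Y, W.1) → ∀ x,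
      F W a x * a = T.toFun W a (ι.app W.1 x) := fun W a ha hn x => by
    simp only [F, dif_pos (And.intro ha hn), AddMonoidHom.mk'_apply]
    exact (hex W a ha hn x).choose_spec
  refine ⟨⟨F, fun W a ha hn => ⟨fun x y h => ?_, fun t => ?_⟩,
    fun W V h a x ha hn => ?_, fun W a r x ha hn => ?_, fun W a u x ha hn => ?_⟩⟩
  · have h2 : T.toFun W a (ι.app W.1 x) = T.toFun W a (ι.app W.1 y) := by
      rw [← hF W a ha hn, ← hF W a ha hn, h]
    exact app_injective_of_mono ι W.1 ((T.bij W a ha hn).1 h2)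
  · obtain ⟨z, hz⟩ := (T.bij W a ha hn).2 (t * a)
    obtain ⟨k, hk⟩ := kernel_sections_exact (clUnit J.subschemeι M) z ((clUnit_app_eq_zero_iff T ha hn z).2 (by
      rw [hz, ha]
      exact Ideal.mul_mem_left _ _ (Ideal.mem_span_singleton_self a)))
    exact ⟨k, (mul_cancel_right_mem_nonZeroDivisors hn).1 ((hF W a ha hn k).trans ((congrArg _ hk).trans hz))⟩
  · have ha' := ModPairLib.ideal_restrict J h ha
    have hn' := ModPairLib.res_mem_nonZeroDivisors h hn
    refine (mul_cancel_right_mem_nonZeroDivisors hn').1 ?_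
    rw [hF V _ ha' hn', ← map_mul, hF W a ha hn, T.natural W V h a _ ha hn, app_resM]
  · refine (mul_cancel_right_mem_nonZeroDivisors hn).1 ?_
    rw [hF W a ha hn, mul_assoc, hF W a ha hn, Scheme.Modules.Hom.app_smul, T.smul W a r _ ha hn]
  · have ha' : J.ideal W = Ideal.span {(u : Γ(Y, W.1)) * a} := by
      rw [ha, Ideal.span_singleton_mul_left_unit u.isUnit]
    have hn' : (u : Γ(Y, W.1)) * a ∈ nonZeroDivisors Γ(Y, W.1) := mul_mem u.isUnit.mem_nonZeroDivisors hn
    refine (mul_cancel_right_mem_nonZeroDivisors hn).1 ?_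
    rw [hF W a ha hn, T.units W a u _ ha hn, ← hF W _ ha' hn', zpow_add_one, Units.val_mul]
    ring

/-- A twist is invertible, hence quasi-coherent. -/
theorem isQCoh_of_twist (hJ : BlowUp.IsEffCartierIdeal J) (T : TwistData J M m) : Coh.IsQCoh M := by
  refine isQCoh_of_isInvertible (PicLib.isInvertible_of_gens fun y => ?_)
  obtain ⟨W, hyW, a, hn, ha⟩ := hJ y
  obtain ⟨e, he⟩ := (T.bij W a ha hn).2 1
  exact ⟨W.1, hyW, e, T.isGen ha hn he⟩

variable {X X' : Scheme.{u}} {I : X.IdealSheafData} {b : X' ⟶ X} (hb : BlowUp.IsBlowUp b I) {k : ℕ}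
  (hI : KoszulBasis I k)

include hb hI in
/-- Higher direct images of the restriction of a twist to the exceptional divisor vanish. -/
theorem isZero_rpushAb_restrict {M : X'.Modules} [Coh.IsQCoh M] {m : ℤ} (T : TwistData (I.comap b) M m)
    (hm : -(k : ℤ) ≤ m) (p : ℕ) (hp : 1 ≤ p) :
    IsZero ((Coh.RpushAb b p).obj (Coh.toAb ((Scheme.Modules.pushforward (I.comap b).subschemeι).obj
      ((Scheme.Modules.pullback (I.comap b).subschemeι).obj M)))) := by
  haveI : IsGrothendieckAbelian.{u} X'.Modules := DCat.schemeModules_isGrothendieckAbelian X'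
  haveI : EnoughInjectives X'.Modules := inferInstance
  haveI : HasInjectiveResolutions X'.Modules := inferInstance
  haveI : Coh.IsQCoh ((Scheme.Modules.pullback (I.comap b).subschemeι).obj M) :=
    EGA43.InjFibre.isQCoh_pullback _ M
  haveI : Coh.IsQCoh ((Scheme.Modules.pushforward (I.comap b).subschemeι).obj
      ((Scheme.Modules.pullback (I.comap b).subschemeι).obj M)) := isQCoh_push _ _
  haveI := isQCoh_kernel (clUnit (I.comap b).subschemeι M)
  haveI := epi_clUnit (I.comap b).subschemeι (F := M)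
  obtain ⟨T'⟩ := exists_twist_kernel T
  have hS := CohCmpLib.shortExact_kernel_of_epi (clUnit (I.comap b).subschemeι M)
  have h2 := isZero_rpush_of_rpushAb b (isZero_rpushAb hb hI T hm p hp)
  have h1 := isZero_rpush_of_rpushAb b (isZero_rpushAb hb hI T' (by omega) (p + 1) (by omega))
  have h3 := DCat.Acyclic.isZero_rightDerived_X₃ (F := Scheme.Modules.pushforward b) hS p h2 h1
  exact ((toAbFunctor X).map_isZero h3).of_iso (toAbRpushIso b _ p).symm

end Groth.Agent.BlowUpCoh
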