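import Groth.Agent.BlowUpCoh.Local
import Groth.Agent.Coherent.Affineness
import Groth.Agent.EGA43.QcohFP
import Groth.Agent.ModStalk.Exact
import Groth.Prelude.Def_Curv2

/-!
# `H¹` of a globally generated module when two affines cover
-/

set_option autoImplicit false
set_option backward.isDefEq.respectTransparency.types false
set_option linter.style.haveILetI false

universe u

open CategoryTheory CategoryTheory.Abelian CategoryTheory.Limits AlgebraicGeometry TopologicalSpace Opposite
open Groth.Agent.Coherent Groth.Agent.PicLib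

namespace Groth.Agent.BlowUpCoh

variable {X : Scheme.{u}} {F : X.Modules}

/-- Restriction does not change germs. -/
theorem germ_resM' {M : X.Modules} {V U : X.Opens} (h : V ≤ U) {x : X} (hx : x ∈ V) (a : Γ(M, U)) :
    M.presheaf.germ V x hx (resM M h a) = M.presheaf.germ U x (h hx) a :=
  TopCat.Presheaf.germ_res_apply M.presheaf (homOfLE h) x hx a

/-- Germs of global sections span the stalks of a globally generated module. -/
theorem span_germ_eq_top (hgg : Curv2.IsGloballyGenerated F) (x : X) :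
    Submodule.span (X.presheaf.stalk x)
      (Set.range fun s : Γ(F, ⊤) => (F.presheaf.germ ⊤ x trivial s : F.presheaf.stalk x)) = ⊤ := by
  obtain ⟨ι, p₀, hp⟩ := hgg
  let p : freeMod X ι ⟶ F := p₀
  haveI : Epi p := hp
  refine Submodule.eq_top_iff'.2 fun z => ?_
  set S := Submodule.span (X.presheaf.stalk x)
      (Set.range fun s : Γ(F, ⊤) => (F.presheaf.germ ⊤ x trivial s : F.presheaf.stalk x)) with hS
  haveI : Epi ((DerSch.stalkFunctor X x).map p) := (DerSch.stalkFunctor X x).map_epi p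
  obtain ⟨y, rfl⟩ :=
    (ModuleCat.epi_iff_surjective ((DerSch.stalkFunctor X x).map p)).1 inferInstance z
  have hl := isColimitOfPreserves (DerSch.stalkFunctor X x)
    (SheafOfModules.isColimitFreeCofan (R := X.ringCatSheaf) ι)
  have h0 : (DerSch.stalkFunctor X x).map p ≫ ModuleCat.ofHom S.mkQ = 0 := by
    refine hl.hom_ext fun ⟨i⟩ => ?_
    refine ModuleCat.hom_ext (LinearMap.ext fun c => ?_)
    obtain ⟨V, hV, r, rfl⟩ := (Coh.structureModule X).presheaf.exists_germ_eq c
    show S.mkQ (((DerSch.stalkFunctor X x).map p).hom (((DerSch.stalkFunctor X x).map (freeInj i)).hom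
      ((Coh.structureModule X).presheaf.germ V x hV r))) = _
    erw [stalk_map_germ, stalk_map_germ]
    rw [Submodule.mkQ_apply]
    refine ((Submodule.Quotient.mk_eq_zero S).2 ?_).trans (LinearMap.congr_fun (rfl : (0 : _ →ₗ[X.presheaf.stalk x] _) = 0) _)
    rw [show p.app V ((freeInj i).app V r) = (freeInj i ≫ p).app V r from rfl, app_unit,
      ← resM_unitVal (freeInj i ≫ p) (le_top : V ≤ ⊤), QCohLoc.germ_smul', germ_resM']
    exact S.smul_mem _ (Submodule.subset_span ⟨_, rfl⟩)
  have h1 := congrArg (fun f => f.hom y) h0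
  exact (Submodule.Quotient.mk_eq_zero S).1 h1

/-- On an affine open the restrictions of the global sections generate. -/
theorem span_res_eq_top [Coh.IsQCoh F] (hgg : Curv2.IsGloballyGenerated F) {W : X.Opens} (hW : IsAffineOpen W) :
    Submodule.span Γ(X, W) (Set.range fun s : Γ(F, ⊤) => resM F (le_top : W ≤ ⊤) s) = ⊤ := by
  set N := Submodule.span Γ(X, W) (Set.range fun s : Γ(F, ⊤) => resM F (le_top : W ≤ ⊤) s) with hN
  refine Submodule.eq_top_iff'.2 fun v => ?_
  let J : Ideal Γ(X, W) := N.comap (LinearMap.toSpanSingleton Γ(X, W) _ v)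
  suffices hJ : J = ⊤ by
    have h1 : (1 : Γ(X, W)) ∈ J := hJ ▸ Submodule.mem_top
    have h2 : (1 : Γ(X, W)) • v ∈ N := h1
    rwa [one_smul] at h2
  by_contra hne
  obtain ⟨m, hm, hJm⟩ := Ideal.exists_le_maximal J hne
  let x : X := hW.fromSpec ⟨m, hm.isPrime⟩
  have hx : x ∈ W := hW.range_fromSpec.le ⟨_, rfl⟩
  have hprime : (hW.primeIdealOf ⟨x, hx⟩).asIdeal = m := by
    have h := hW.fromSpec_primeIdealOf ⟨x, hx⟩
    exact congrArg PrimeSpectrum.asIdeal (hW.fromSpec.isOpenEmbedding.injective h)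
  let _ := (X.presheaf.germ W x hx).hom.toAlgebra
  let _ := Module.compHom (F.presheaf.stalk x) (X.presheaf.germ W x hx).hom
  have : IsScalarTower Γ(X, W) (X.presheaf.stalk x) (F.presheaf.stalk x) :=
    IsScalarTower.of_algebraMap_smul fun _ _ => rfl
  let φ : Γ(F, W) →ₗ[Γ(X, W)] F.presheaf.stalk x :=
    { toFun := F.presheaf.germ W x hx
      map_add' := map_add _
      map_smul' := QCohLoc.germ_smul' (M := F) hx }
  haveI := EGA43.QcohFP.isLocalizedModule_germ F hW hx φ fun _ => rfl
  haveI : IsLocalization.AtPrime (X.presheaf.stalk x) (hW.primeIdealOf ⟨x, hx⟩).asIdeal :=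
    hW.isLocalization_stalk ⟨x, hx⟩
  let Q := (hW.primeIdealOf ⟨x, hx⟩).asIdeal.primeCompl
  have key : N.localized' (X.presheaf.stalk x) Q φ = ⊤ := by
    rw [hN, Submodule.localized'_span, ← Set.range_comp, ← top_le_iff, ← span_germ_eq_top hgg x]
    refine Submodule.span_mono ?_
    rintro _ ⟨s, rfl⟩
    exact ⟨s, germ_resM' (le_top : W ≤ ⊤) hx s⟩
  obtain ⟨w, hw, t, ht⟩ := (key.ge (Submodule.mem_top : φ v ∈ (⊤ : Submodule (X.presheaf.stalk x) _)))
  rw [IsLocalizedModule.mk'_eq_iff, ← φ.map_smul_of_tower] at ht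
  obtain ⟨c, hc⟩ := IsLocalizedModule.exists_of_eq (S := Q) ht
  have hmem : ((c : Γ(X, W)) * t) ∈ J := by
    show ((c : Γ(X, W)) * t) • v ∈ N
    rw [mul_smul]
    exact (show (c : Γ(X, W)) • (t : Γ(X, W)) • v = (c : Γ(X, W)) • w from hc.symm) ▸ N.smul_mem _ hw
  exact (hm.isPrime.mem_or_mem (hJm hmem)).elim (fun h => c.2 (hprime ▸ h)) (fun h => t.2 (hprime ▸ h))

/-- If `H¹(X, O) = 0` and two affines with affine intersection cover `X`, then `H¹` of a globally
generated quasi-coherent module vanishes. -/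
theorem subsingleton_HH_one_of_gg [Coh.IsQCoh F] {U V : X.Opens} (hU : IsAffineOpen U) (hV : IsAffineOpen V)
    (hUV : IsAffineOpen (U ⊓ V)) (hcov : U ⊔ V = ⊤) (hO : Subsingleton (Coh.HH X (Coh.structureModule X) 1))
    (hgg : Curv2.IsGloballyGenerated F) : Subsingleton (Coh.HH X F 1) := by
  suffices h : Subsingleton (Sheaf.H' (Coh.toAb F) 1 (⊤ : X.Opens)) from (HHTopEquiv F 1).subsingleton
  rw [← hcov]
  haveI : Coh.IsQCoh (Coh.structureModule X) := isQCoh_structureModule
  have hO' : Subsingleton (Sheaf.H' (Coh.toAb (Coh.structureModule X)) 1 (U ⊔ V)) := by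
    rw [hcov]
    exact (HHTopEquiv (Coh.structureModule X) 1).symm.toEquiv.subsingleton
  refine subsingleton_of_forall_eq 0 fun x => ?_
  obtain ⟨w, rfl⟩ := exists_deltaH (X := X.toTopCat) (U := U) (V := V)
    (x := (x : Ext (freeSh (X := X.toTopCat) (U ⊔ V)) (Coh.toAb F) 1))
    ((subsingleton_H'_qcoh_pos F hU le_rfl).elim _ _) ((subsingleton_H'_qcoh_pos F hV le_rfl).elim _ _)
  have hsplit : ∀ c : Γ(X, U ⊓ V), ∃ (a : Γ(X, U)) (b : Γ(X, V)),
      X.presheaf.map (homOfLE (inf_le_left : U ⊓ V ≤ U)).op a -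
        X.presheaf.map (homOfLE (inf_le_right : U ⊓ V ≤ V)).op b = c := fun c => by
    obtain ⟨a, b, hab⟩ := exists_of_deltaH_eq_zero (X := X.toTopCat) (U := U) (V := V) (n := 0)
      (w := (secH (X := X.toTopCat) (Coh.toAb (Coh.structureModule X)) (U ⊓ V)).symm c) (hO'.elim _ _)
    refine ⟨secH (X := X.toTopCat) _ U a, secH (X := X.toTopCat) _ V b, ?_⟩
    have h := congrArg (secH (X := X.toTopCat) (Coh.toAb (Coh.structureModule X)) (U ⊓ V)) hab
    rw [map_sub, secH_resH, secH_resH, AddEquiv.apply_symm_apply] at h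
    exact h
  have hdiff : ∀ v : Γ(F, U ⊓ V), v ∈ Submodule.span Γ(X, U ⊓ V)
      (Set.range fun s : Γ(F, ⊤) => resM F (le_top : U ⊓ V ≤ ⊤) s) → ∀ c : Γ(X, U ⊓ V),
      ∃ (a : Γ(F, U)) (b : Γ(F, V)),
        resM F inf_le_left a - resM F (inf_le_right : U ⊓ V ≤ V) b = c • v := by
    intro v hv
    induction hv using Submodule.span_induction with
    | mem v hv =>
      intro c
      obtain ⟨s, rfl⟩ := hv
      obtain ⟨a, b, hab⟩ := hsplit c
      refine ⟨a • resM F le_top s, b • resM F le_top s, ?_⟩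
      rw [resM_smul, resM_smul, resM_resM, resM_resM, ← sub_smul, hab]
    | zero => exact fun c => ⟨0, 0, by simp⟩
    | add v v' _ _ ih ih' =>
      intro c
      obtain ⟨a, b, hab⟩ := ih c
      obtain ⟨a', b', hab'⟩ := ih' c
      refine ⟨a + a', b + b', ?_⟩
      rw [map_add, map_add, smul_add, ← hab, ← hab']
      abel
    | smul r v _ ih =>
      intro c
      obtain ⟨a, b, hab⟩ := ih (c * r)
      exact ⟨a, b, hab.trans (mul_smul c r v)⟩
  let e := secH (X := X.toTopCat) (Coh.toAb F) (U ⊓ V)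
  obtain ⟨a, b, hab⟩ := hdiff (e w) ((span_res_eq_top hgg hUV).ge Submodule.mem_top) 1
  rw [one_smul] at hab
  have hw : w = resH (Coh.toAb F) 0 inf_le_left ((secH (X := X.toTopCat) (Coh.toAb F) U).symm a) -
      resH (Coh.toAb F) 0 inf_le_right ((secH (X := X.toTopCat) (Coh.toAb F) V).symm b) := by
    refine e.injective ?_
    rw [map_sub, secH_resH, secH_resH, AddEquiv.apply_symm_apply, AddEquiv.apply_symm_apply]
    exact hab.symm
  rw [hw]
  exact deltaH_sub_eq_zero _ _

end Groth.Agent.BlowUpCoh
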