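import Groth.Agent.BlowUpCoh.Twists
import Groth.Agent.BlowUpLib.LocalTarget
import Groth.Agent.Coherent.RpushVanish
import Groth.Agent.H8Coh.RpushVanishBC
import Groth.Agent.TwistLib.G.Map

/-!
# Direct images of the twists on a blowing up in a Koszul regular centre
-/

set_option autoImplicit false
set_option backward.isDefEq.respectTransparency.types false

universe u

open CategoryTheory CategoryTheory.Limits AlgebraicGeometry TopologicalSpace Opposite
open Groth.Agent.Coherent Groth.Agent.CAlgH.KoszulRegular Groth.Agent.Coherent.CohBC Groth.Agent.PicLib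
open Groth.Agent.BlowUpLib (isProper_of_isBlowUp isBlowUp_restrict mem_nonZeroDivisors_of_eff)

namespace Groth.Agent.BlowUpCoh

local notation "rs" => Groth.Agent.ModPairLib.res

section Local

variable {X X' : Scheme.{u}} [IsAffine X] {I : X.IdealSheafData} (b : X' ⟶ X) [X'.IsSeparated]
  {n : ℕ} (f : Fin (n + 1) → Γ(X, ⊤)) (hb : BlowUp.IsBlowUp b I)
  (hspan : I.ideal (topAff X) = Ideal.span (Set.range f)) (hf : KReg f)
  {M : X'.Modules}

include hb hspan hf in
/-- For a twist of exponent `-j ≤ 0` with a section equal to `a ^ j` for every generator `a`, the functions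
of the base are the global sections. -/
theorem bijective_global (j : ℕ) (hj : j ≤ n) (T : TwistData (I.comap b) M (-(j : ℤ))) (ξ : Γ(M, ⊤))
    (hξ : ∀ (W : X'.affineOpens) (a : Γ(X', W.1)), (I.comap b).ideal W = Ideal.span {a} →
      a ∈ nonZeroDivisors Γ(X', W.1) → T.toFun W a (resM M le_top ξ) = a ^ j) :
    Function.Bijective fun r : Γ(X, ⊤) => ((b.appLE ⊤ ⊤ le_top).hom r) • ξ := by
  have hm : -(n : ℤ) ≤ -(j : ℤ) := by omega
  have key : ∀ {q : ℕ} (s : Fin (q + 1) → Fin (n + 1)) (r : Γ(X, ⊤)),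
      rhoM b f hb hspan T s (resM M le_top ((b.appLE ⊤ ⊤ le_top).hom r • ξ)) = algebraMap Γ(X, ⊤) (Af f s) r := by
    intro q s r
    obtain ⟨hg, hn⟩ := gen_spec b f hb hspan s (k := s 0) (mem_img.2 ⟨0, rfl⟩)
    rw [rhoM_apply, resM_smul, T.smul _ _ _ _ hg hn, hξ _ _ hg hn, map_mul, map_pow, rho_gen,
      fpow_single_unit f (s 0) (isUnit_self f s (mem_img.2 ⟨0, rfl⟩)), mul_assoc]
    have e : rs (le_top : WI b f I s ≤ ⊤) ((b.appLE ⊤ ⊤ le_top).hom r) = (b.appLE ⊤ (WI b f I s) le_top).hom r :=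
      ConcreteCategory.congr_hom (b.appLE_map le_top (homOfLE le_top).op) r
    refine (congrArg (· * _) ((congrArg _ e).trans (rho_appLE b f hb hspan s r))).trans ?_
    have e2 := (isUnit_self f s (mem_img.2 ⟨0, rfl⟩)).unit_spec
    generalize (isUnit_self f s (mem_img.2 ⟨0, rfl⟩)).unit = w at e2 ⊢
    rw [← e2, zpow_neg, zpow_natCast, ← Units.val_pow_eq_pow_val, Units.mul_inv, mul_one]
  let one : ∀ k : Fin (n + 1), Fin 1 → Fin (n + 1) := fun k _ => k
  have haug : ∀ (y : ∀ t : Fin 0 → Fin (n + 1), Af f t) (r : Γ(X, ⊤)),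
      (∀ t, y t = algebraMap Γ(X, ⊤) (Af f t) r) → ∀ s : Fin 1 → Fin (n + 1), dA f 0 y s = algebraMap Γ(X, ⊤) _ r := by
    intro y r hy s
    rw [dA, Fintype.sum_subsingleton _ (0 : Fin 1), Fin.val_zero, pow_zero, one_smul, hy, AlgHom.commutes]
  refine ⟨fun r r' h => ?_, fun x => ?_⟩
  · have h0 := eq_zero_of_dA_zero f hf hm (fun t => algebraMap Γ(X, ⊤) (Af f t) (r - r'))
      (fun t => by rw [D_zero_eq_top f (by omega) t]; trivial) (fun s => by
        rw [haug _ (r - r') (fun _ => rfl) s, map_sub, ← key s r, ← key s r', sub_eq_zero]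
        exact congrArg (fun z => rhoM b f hb hspan T s (resM M le_top z)) h) Fin.elim0
    refine sub_eq_zero.1 ((IsLocalization.injective (Af f (Fin.elim0 : Fin 0 → Fin (n + 1)))
      (M := Submonoid.powers (∏ i, f ((Fin.elim0 : Fin 0 → Fin (n + 1)) i))) ?_) (h0.trans (map_zero _).symm))
    refine Submonoid.powers_le.2 ?_
    simp
  · obtain ⟨y, -, hyx⟩ := exists_dA_eq f hf hm (q := 0) (fun s => rhoM b f hb hspan T s (resM M le_top x))
      (fun s => rhoM_mem b f hb hspan T s _) (fun w => by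
        rw [rhoM_cxD, Fin.sum_univ_two, resM_resM, resM_resM]
        simp)
    obtain ⟨r, hr⟩ : ∃ r, algebraMap Γ(X, ⊤) (Af f (Fin.elim0 : Fin 0 → Fin (n + 1))) r = y Fin.elim0 := by
      obtain ⟨r, ⟨_, e, rfl⟩, hre⟩ := IsLocalization.exists_mk'_eq
        (Submonoid.powers (∏ i, f ((Fin.elim0 : Fin 0 → Fin (n + 1)) i))) (y Fin.elim0)
      refine ⟨r, ?_⟩
      rw [← hre, IsLocalization.eq_mk'_iff_mul_eq, ← map_mul]
      simp
    refine ⟨r, AmpleLib.sec_ext M _ _ fun z hz => ?_⟩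
    obtain ⟨k, hk⟩ := Opens.mem_iSup.1 ((iSup_chartW b f hb hspan).ge hz)
    refine ⟨chartW I b f k, le_top, hk, ?_⟩
    have hle : chartW I b f k ≤ WI b f I (one k) := le_iInf fun _ => le_rfl
    have h : resM M (le_top : WI b f I (one k) ≤ ⊤) ((b.appLE ⊤ ⊤ le_top).hom r • ξ) = resM M le_top x := by
      refine rhoM_injective b f hb hspan T (one k) ?_
      rw [key, ← hyx (one k), haug y r (fun t => by rw [Subsingleton.elim t Fin.elim0, hr])]
    have h' := congrArg (resM M hle) h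
    rwa [resM_resM, resM_resM] at h'

end Local

/-- The ideal has near every point an affine open on which it is generated by a Koszul regular sequence
of length `≥ k`. -/
def KoszulBasis {X : Scheme.{u}} (I : X.IdealSheafData) (k : ℕ) : Prop :=
  Opens.IsBasis {V : X.Opens | ∃ (hV : IsAffineOpen V) (n : ℕ) (f : Fin (n + 1) → Γ(X, V)),
    k ≤ n ∧ I.ideal ⟨V, hV⟩ = Ideal.span (Set.range f) ∧ KReg f}

variable {X X' : Scheme.{u}} {I : X.IdealSheafData} {b : X' ⟶ X} (hb : BlowUp.IsBlowUp b I)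
  {k : ℕ} (hI : KoszulBasis I k)

omit hI in
/-- Finite type is local. -/
theorem isFiniteType_of_local (h : ∀ x : X, ∃ U : X.affineOpens, x ∈ U.1 ∧ (I.ideal U).FG) :
    BlowUp.IsFiniteTypeIdeal I := by
  intro V
  let t : Set Γ(X, V.1) := {g | (I.ideal (X.affineBasicOpen g)).FG}
  have ht : Ideal.span t = ⊤ := by
    rw [← V.2.self_le_iSup_basicOpen_iff]
    intro x hx
    obtain ⟨U, hxU, hU⟩ := h x
    obtain ⟨g, hg, hxg⟩ := V.2.exists_basicOpen_le ⟨x, hxU⟩ hx
    exact Opens.mem_iSup.2 ⟨⟨g, by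
      show (I.ideal (X.affineBasicOpen g)).FG
      rw [← I.map_ideal (U := X.affineBasicOpen g) (V := U) hg]
      exact hU.map _⟩, hxg⟩
  refine Ideal.fg_of_localizationSpan t ht fun ⟨g, hgf⟩ => ?_
  have := V.2.isLocalization_basicOpen g
  let e := IsLocalization.algEquiv (Submonoid.powers g) Γ(X, X.basicOpen g) (Localization.Away g)
  have h1 : (I.ideal V).map (algebraMap Γ(X, V.1) (Localization.Away g)) =
      ((I.ideal V).map (algebraMap Γ(X, V.1) Γ(X, X.basicOpen g))).map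
        (e.toAlgHom : _ →+* Localization.Away g) := by
    rw [Ideal.map_map, e.toAlgHom.comp_algebraMap]
  rw [h1, show (I.ideal V).map (algebraMap Γ(X, V.1) Γ(X, X.basicOpen g)) = I.ideal (X.affineBasicOpen g) from
    I.map_ideal_basicOpen V g]
  exact Ideal.FG.map hgf _

include hI in
theorem isFiniteType_of_koszulBasis : BlowUp.IsFiniteTypeIdeal I := by
  refine isFiniteType_of_local fun x => ?_
  obtain ⟨V, ⟨hV, n, f, -, hf, -⟩, hxV, -⟩ := Opens.isBasis_iff_nbhd.mp hI (show x ∈ (⊤ : X.Opens) from trivial)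
  exact ⟨⟨V, hV⟩, hxV, by rw [hf]; exact Submodule.fg_span (Set.finite_range f)⟩

include hb hI in
/-- The data of the restriction to a good affine open. -/
theorem exists_restrict_data {V : X.Opens} (hV : IsAffineOpen V) {n : ℕ} {f : Fin (n + 1) → Γ(X, V)}
    (hf : I.ideal ⟨V, hV⟩ = Ideal.span (Set.range f)) (hk : KReg f) :
    ∃ f' : Fin (n + 1) → Γ((V : Scheme.{u}), ⊤),
      (haveI : IsAffine (V : Scheme.{u}) := hV; (I.comap V.ι).ideal (topAff (V : Scheme.{u}))) =
        Ideal.span (Set.range f') ∧ KReg f' ∧ ((b ⁻¹ᵁ V : X'.Opens) : Scheme.{u}).IsSeparated := by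
  haveI : IsAffine (V : Scheme.{u}) := hV
  let e : Γ(X, V) ≃+* Γ((V : Scheme.{u}), ⊤) := V.topIso.symm.commRingCatIsoToRingEquiv
  refine ⟨fun l => e (f l), ?_, kreg_ringEquiv e f hk, ?_⟩
  · have hle : (⊤ : (V : Scheme.{u}).Opens) ≤ V.ι ⁻¹ᵁ V := (Scheme.Opens.ι_preimage_self V).ge
    rw [ProjLib.comap_ideal_eq I V.ι ⟨V, hV⟩ (topAff (V : Scheme.{u})) hle, hf, Ideal.map_span, ← Set.range_comp]
    congr 2
    funext l
    refine ConcreteCategory.congr_hom (?_ : V.ι.appLE V ⊤ hle = V.topIso.inv) (f l)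
    simp [Scheme.Hom.appLE, Scheme.Opens.topIso_inv]
    erw [← Functor.map_comp]
    rfl
  · have := isProper_of_isBlowUp hb (isFiniteType_of_koszulBasis hI)
    exact ⟨by
      rw [show terminal.from ((b ⁻¹ᵁ V : X'.Opens) : Scheme.{u}) = (b ∣_ V) ≫ terminal.from _ from terminal.hom_ext _ _]
      infer_instance⟩

theorem comap_restrict (V : X.Opens) : (I.comap V.ι).comap (b ∣_ V) = (I.comap b).comap (b ⁻¹ᵁ V).ι := by
  rw [← Scheme.IdealSheafData.comap_comp, morphismRestrict_ι, Scheme.IdealSheafData.comap_comp]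

include hb hI in
/-- Higher direct images of a twist of exponent `≥ -k` vanish. -/
theorem isZero_rpushAb {M : X'.Modules} [Coh.IsQCoh M] {m : ℤ} (T : TwistData (I.comap b) M m)
    (hm : -(k : ℤ) ≤ m) (p : ℕ) (hp : 1 ≤ p) : IsZero ((Coh.RpushAb b p).obj (Coh.toAb M)) := by
  obtain ⟨p, rfl⟩ : ∃ i, p = i + 1 := ⟨p - 1, by omega⟩
  refine isZero_rpushAb_of_basis b _ hI _ _ ?_
  rintro V ⟨hV, n, f, hkn, hf, hk⟩
  haveI : IsAffine (V : Scheme.{u}) := hV
  obtain ⟨f', hf', hk', hsep⟩ := exists_restrict_data hb hI hV hf hk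
  let U : X'.Opens := b ⁻¹ᵁ V
  haveI : Coh.IsQCoh (M.restrict U.ι) := H8Coh.isQCoh_restrictOpen U M
  let T' : TwistData ((I.comap V.ι).comap (b ∣_ V)) (M.restrict U.ι) m :=
    (T.restrict U).congrIdeal (comap_restrict V).symm
  have := subsingleton_HH (b ∣_ V) f' (isBlowUp_restrict hb V) hf' T' hk' (by omega) p
  exact (((HHTopEquiv (M.restrict U.ι) (p + 1)).trans (H'ModRestrictEquiv U.ι M ⊤ (p + 1))).trans
    (H'Congr (Coh.toAb M) (p + 1) (Scheme.Opens.ι_image_top U))).symm.toEquiv.subsingleton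

include hb hI in
/-- A section inverse to the twist identifies the structure sheaf with the direct image. -/
theorem isIso_of_section {M : X'.Modules} (j : ℕ) (hj : j ≤ k) (T : TwistData (I.comap b) M (-(j : ℤ)))
    (ξ : Γ(M, ⊤))
    (hξ : ∀ (W : X'.affineOpens) (a : Γ(X', W.1)), (I.comap b).ideal W = Ideal.span {a} →
      a ∈ nonZeroDivisors Γ(X', W.1) → T.toFun W a (resM M le_top ξ) = a ^ j)
    (φ : Coh.structureModule X ⟶ (Scheme.Modules.pushforward b).obj M)
    (hφ : ∀ (V : X.Opens) (r : Γ(X, V)),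
      (φ.app V r : Γ(M, b ⁻¹ᵁ V)) = (b.app V).hom r • resM M (le_top : b ⁻¹ᵁ V ≤ ⊤) ξ) : IsIso φ := by
  refine TwistLib.G.isIso_of_bijective_on_basis φ _ (fun W y hy => Opens.isBasis_iff_nbhd.mp hI hy) ?_
  rintro V ⟨hV, n, f, hkn, hf, hk⟩
  haveI : IsAffine (V : Scheme.{u}) := hV
  obtain ⟨f', hf', hk', hsep⟩ := exists_restrict_data hb hI hV hf hk
  let U : X'.Opens := b ⁻¹ᵁ V
  let ξ' : Γ(M.restrict U.ι, ⊤) := resM M le_top ξ
  let T' : TwistData ((I.comap V.ι).comap (b ∣_ V)) (M.restrict U.ι) (-(j : ℤ)) :=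
    (T.restrict U).congrIdeal (comap_restrict V).symm
  have h := bijective_global (b ∣_ V) f' (isBlowUp_restrict hb V) hf' hk' j (hj.trans hkn) T' ξ'
    fun W a ha hn => by
      refine Eq.trans ?_ (hξ (imageAff U W) a ((ideal_comap_ι U W).symm.trans (comap_restrict (b := b) V ▸ ha)) hn)
      exact congrArg (T.toFun (imageAff U W) a)
        (resM_resM M (le_top : U.ι ''ᵁ ⊤ ≤ ⊤) (U.ι.image_mono le_top) ξ)
  let e1 : Γ(X, V) ≃ Γ((V : Scheme.{u}), ⊤) := V.topIso.symm.commRingCatIsoToRingEquiv.toEquiv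
  let e2 : Γ(M.restrict U.ι, ⊤) → Γ(M, U) := resM M (Scheme.Opens.ι_image_top U).ge
  have he2 : Function.Bijective e2 := resM_bijective_of_eq M _ (Scheme.Opens.ι_image_top U)
  have e : (fun r => (φ.app V).hom r) = e2 ∘ (fun r => ((b ∣_ V).appLE ⊤ ⊤ le_top).hom r • ξ') ∘ e1 := by
    funext r
    refine (hφ V r).trans ?_
    show _ = resM M (Scheme.Opens.ι_image_top U).ge
      ((U.ι.appIso ⊤).inv (((b ∣_ V).appLE ⊤ ⊤ le_top).hom (V.topIso.inv r)) • resM M le_top ξ)
    rw [resM_smul, resM_resM]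
    congr 1
    refine (ConcreteCategory.congr_hom (?_ : b.app V = V.topIso.inv ≫ (b ∣_ V).appLE ⊤ ⊤ le_top ≫
      (U.ι.appIso ⊤).inv ≫ X'.presheaf.map (homOfLE (Scheme.Opens.ι_image_top U).ge).op) r).trans ?_
    · simp [morphismRestrict_appLE, Scheme.Opens.ι_appIso, Scheme.Opens.topIso_inv, Scheme.Hom.appLE,
        ← Functor.map_comp]
      erw [Category.id_comp, Category.id_comp, Category.assoc, b.naturality_assoc, ← Functor.map_comp,
        ← Functor.map_comp]
      exact (Category.comp_id _).symm.trans (congrArg (b.app V ≫ ·)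
        (((congrArg X'.presheaf.map (Subsingleton.elim _ (𝟙 _))).trans (X'.presheaf.map_id _)).symm))
    · rfl
  show Function.Bijective fun r => (φ.app V).hom r
  rw [e]
  exact he2.comp (h.comp e1.bijective)

end Groth.Agent.BlowUpCoh
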