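import Groth.Agent.BlowUpCoh.Sections
import Groth.Agent.BlowUpCoh.LocFree

/-!
# The direct image of a power of the exceptional ideal
-/

set_option autoImplicit false
set_option backward.isDefEq.respectTransparency.types false
set_option linter.style.haveILetI false

universe u

open CategoryTheory CategoryTheory.Limits AlgebraicGeometry TopologicalSpace Opposite
open Groth.Agent.Coherent Groth.Agent.PicLib Groth.Agent.AmpleLib

namespace Groth.Agent.BlowUpCoh

variable {X X' : Scheme.{u}}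

/-- A monomorphism into the structure sheaf with the image of an ideal on a basis of affines is the ideal. -/
theorem nonempty_iso_idealMod_of_basis (J : X.IdealSheafData) {N : X.Modules} (ψ : N ⟶ Coh.structureModule X) [Mono ψ]
    (B : X.Opens → Prop) (hB : Opens.IsBasis {V | B V}) (haff : ∀ V, B V → IsAffineOpen V)
    (h : ∀ (V : X.Opens) (hV : B V) (r : Γ(X, V)), (∃ x : Γ(N, V), ψ.app V x = r) ↔ r ∈ J.ideal ⟨V, haff V hV⟩) :
    Nonempty (N ≅ ClSub.idealMod J) := by
  have hker : ∀ (V : X.Opens) (hV : B V) (r : Γ(X, V)),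
      J.subschemeι.app V r = 0 ↔ r ∈ J.ideal ⟨V, haff V hV⟩ := fun V hV r => by
    rw [← J.ker_subschemeι_app ⟨V, haff V hV⟩, RingHom.mem_ker]
  have h0 : ψ ≫ ClSub.toSubscheme J = 0 := by
    refine Scheme.Modules.hom_ext _ _ fun W => ConcreteCategory.hom_ext _ _ fun x => ?_
    refine sec_ext _ _ _ fun y hy => ?_
    obtain ⟨V, hV, hyV, hVW⟩ := Opens.isBasis_iff_nbhd.mp hB hy
    refine ⟨V, hVW, hyV, ?_⟩
    rw [← app_resM, ← app_resM, show (0 : N ⟶ ClSub.quotMod J).app V (resM N hVW x) = 0 from rfl]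
    exact (hker V hV _).2 ((h V hV _).1 ⟨resM N hVW x, rfl⟩)
  let θ : N ⟶ ClSub.idealMod J := kernel.lift (ClSub.toSubscheme J) ψ h0
  have hθ : θ ≫ ClSub.idealModι J = ψ := kernel.lift_ι _ _ _
  haveI : IsIso θ := by
    refine TwistLib.G.isIso_of_bijective_on_basis θ B (fun W y hy => Opens.isBasis_iff_nbhd.mp hB hy) ?_
    intro V hV
    have hi := idealModι_injective J V
    have he : ∀ x, (ClSub.idealModι J).app V (θ.app V x) = ψ.app V x := fun x =>
      congr(($hθ).app V x)
    refine ⟨fun x y hxy => app_injective_of_mono ψ V (by rw [← he, ← he, hxy]), fun w => ?_⟩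
    obtain ⟨x, hx⟩ := (h V hV _).2 ((hker V hV _).1 ((mem_range_idealModι J V _).1 ⟨w, rfl⟩))
    exact ⟨x, hi ((he x).trans hx)⟩
  exact ⟨asIso θ⟩

variable {I : X.IdealSheafData} {b : X' ⟶ X} (hb : BlowUp.IsBlowUp b I) {k : ℕ} (hI : KoszulBasis I k)

include hb hI in
/-- The direct image of a power of the exceptional ideal is the power of the ideal. -/
theorem nonempty_pushforward_idealPow (m : ℕ) :
    Nonempty ((Scheme.Modules.pushforward b).obj (ClSub.idealMod ((I.comap b) ^ m)) ≅ ClSub.idealMod (I ^ m)) := by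
  haveI := isIso_unitMap hb hI
  haveI : PreservesLimitsOfSize.{0, 0} (Scheme.Modules.pushforward b) :=
    (Scheme.Modules.pullbackPushforwardAdjunction b).rightAdjoint_preservesLimits
  haveI := mono_idealModι ((I.comap b) ^ m)
  let ψ : (Scheme.Modules.pushforward b).obj (ClSub.idealMod ((I.comap b) ^ m)) ⟶ Coh.structureModule X :=
    (Scheme.Modules.pushforward b).map (ClSub.idealModι ((I.comap b) ^ m)) ≫ inv (StMod.unitMap b)
  haveI : Mono ((Scheme.Modules.pushforward b).map (ClSub.idealModι ((I.comap b) ^ m))) := Functor.map_mono _ _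
  haveI : Mono ψ := mono_comp _ _
  let B : X.Opens → Prop := fun V => ∃ (hV : IsAffineOpen V) (n : ℕ) (f : Fin (n + 1) → Γ(X, V)),
    k ≤ n ∧ I.ideal ⟨V, hV⟩ = Ideal.span (Set.range f) ∧ CAlgH.KoszulRegular.KReg f
  refine nonempty_iso_idealMod_of_basis (I ^ m) ψ B hI (fun V hV => hV.1) fun V hV r => ?_
  obtain ⟨hVa, n, f, hkn, hf, hk⟩ := hV
  have hbij : Function.Bijective ((StMod.unitMap b).app V) := ConcreteCategory.bijective_of_isIso _
  have hψ : ∀ x, (StMod.unitMap b).app V (ψ.app V x) =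
      (ClSub.idealModι ((I.comap b) ^ m)).app (b ⁻¹ᵁ V) x := fun x => by
    refine (congr(($(Category.assoc ((Scheme.Modules.pushforward b).map (ClSub.idealModι ((I.comap b) ^ m)))
      (inv (StMod.unitMap b)) (StMod.unitMap b))).app V x)).trans ?_
    rw [IsIso.inv_hom_id, Category.comp_id]
    rfl
  have hiff : (∃ x, ψ.app V x = r) ↔ ((I.comap b) ^ m).subschemeι.app (b ⁻¹ᵁ V) (b.app V r) = 0 := by
    constructor
    · rintro ⟨x, rfl⟩
      exact (mem_range_idealModι _ _ _).1 ⟨x, (hψ x).symm⟩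
    · intro h
      obtain ⟨x, hx⟩ := (mem_range_idealModι _ _ _).2 h
      exact ⟨x, hbij.1 ((hψ x).trans hx)⟩
  rw [hiff, Scheme.IdealSheafData.ideal_pow, Pi.pow_apply]
  let q := ClSub.toSubscheme ((I.comap b) ^ m)
  have hloc : ∀ (W : X'.affineOpens) (hW : W.1 ≤ b ⁻¹ᵁ V),
      resM (ClSub.quotMod ((I.comap b) ^ m)) hW (q.app (b ⁻¹ᵁ V) (b.app V r)) = 0 ↔
        (b.appLE V W.1 hW).hom r ∈ ((I.comap b).ideal W) ^ m := fun W hW => by
    rw [show ((I.comap b).ideal W) ^ m = ((I.comap b) ^ m).ideal W from by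
      rw [Scheme.IdealSheafData.ideal_pow, Pi.pow_apply], ← Scheme.IdealSheafData.ker_subschemeι_app,
      RingHom.mem_ker]
    erw [← app_resM]
    rfl
  constructor
  · intro h
    haveI : IsAffine (V : Scheme.{u}) := hVa
    obtain ⟨f', hf', hk', hsep⟩ := exists_restrict_data hb hI hVa hf hk
    let U : X'.Opens := b ⁻¹ᵁ V
    let e : Γ(X, V) ≃+* Γ((V : Scheme.{u}), ⊤) := V.topIso.symm.commRingCatIsoToRingEquiv
    have key := mem_pow_of_section (b ∣_ V) f' (Groth.Agent.BlowUpLib.isBlowUp_restrict hb V) hf' hk' (m := m)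
      (r := e r) fun W => by
        have hW' : U.ι ''ᵁ W.1 ≤ U := (U.ι.image_mono le_top).trans (Scheme.Opens.ι_image_top U).le
        have h1 := (hloc (imageAff U W) hW').1 ((congrArg (resM _ hW') h).trans (map_zero _))
        rw [Scheme.IdealSheafData.ideal_pow, Pi.pow_apply, comap_restrict V, ideal_comap_ι U W]
        refine Eq.mp (congrArg (· ∈ _) ?_) h1
        refine ConcreteCategory.congr_hom (?_ : b.appLE V (U.ι ''ᵁ W.1) hW' =
          V.topIso.inv ≫ (b ∣_ V).appLE ⊤ W.1 le_top) r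
        simp [morphismRestrict_appLE, Scheme.Opens.topIso_inv, Scheme.Hom.appLE]
        erw [Category.assoc, b.naturality_assoc, ← Functor.map_comp, ← Functor.map_comp]
        rfl
    refine (congrArg (r ∈ · ^ m) hf).mpr ?_
    have hspan' : Ideal.span (Set.range f') = (Ideal.span (Set.range f)).map e.toRingHom := by
      rw [← hf', ← hf]
      have hle : (⊤ : (V : Scheme.{u}).Opens) ≤ V.ι ⁻¹ᵁ V := (Scheme.Opens.ι_preimage_self V).ge
      rw [ProjLib.comap_ideal_eq I V.ι ⟨V, hVa⟩ (topAff (V : Scheme.{u})) hle]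
      have he : (V.ι.appLE V ⊤ hle).hom = e.toRingHom := by
        refine congrArg CommRingCat.Hom.hom (?_ : V.ι.appLE V ⊤ hle = V.topIso.inv)
        simp [Scheme.Hom.appLE, Scheme.Opens.topIso_inv]
        erw [← Functor.map_comp]
        rfl
      exact congrArg (fun φ => Ideal.map φ (I.ideal ⟨V, hVa⟩)) he
    rw [hspan', ← Ideal.map_pow] at key
    obtain ⟨r', hr', hrr⟩ := (Ideal.mem_map_iff_of_surjective _ e.surjective).1 key
    exact e.injective hrr ▸ hr'
  · intro h
    refine Eq.trans (sec_ext (ClSub.quotMod ((I.comap b) ^ m)) (q.app (b ⁻¹ᵁ V) (b.app V r)) 0 fun y hy => ?_) rfl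
    obtain ⟨W, hW, hyW, hWV⟩ := Opens.isBasis_iff_nbhd.mp X'.isBasis_affineOpens hy
    refine ⟨W, hWV, hyW, ?_⟩
    rw [map_zero]
    refine (hloc ⟨W, hW⟩ hWV).2 ?_
    rw [ProjLib.comap_ideal_eq I b ⟨V, hVa⟩ ⟨W, hW⟩ hWV, ← Ideal.map_pow]
    exact Ideal.mem_map_of_mem _ h

end Groth.Agent.BlowUpCoh
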