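import Groth.Agent.BlowUpCoh.Charts

/-!
# The functions on intersections of charts of a blowing up in a Koszul regular sequence

They are the `A`-span of the monomials in `f` inside `A[1 / ∏ f]`.
-/

set_option autoImplicit false
set_option backward.isDefEq.respectTransparency.types false

universe u

open CategoryTheory Limits AlgebraicGeometry TopologicalSpace
open Groth.Agent.BlowUpLib Groth.Agent.CAlgH.KoszulRegular Groth.Agent.BlowUpKoszul
open Groth.Agent.ModPairLib (res_res ideal_restrict)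

namespace Groth.Agent.BlowUpCoh

local notation "rs" => Groth.Agent.ModPairLib.res

variable {X X' : Scheme.{u}} [IsAffine X] {I : X.IdealSheafData} (b : X' ⟶ X)
  {n : ℕ} (f : Fin (n + 1) → Γ(X, ⊤)) (hb : BlowUp.IsBlowUp b I)
  (hspan : I.ideal (topAff X) = Ideal.span (Set.range f))

section D0

omit [IsAffine X]

theorem one_mem_D {q : ℕ} (s : Fin q → Fin (n + 1)) : (1 : Af f s) ∈ D f 0 s := by
  refine ⟨1, ?_, phi_one f _⟩
  rw [AddMonoidAlgebra.one_def]
  exact mon_mem_U ⟨fun _ _ => le_rfl, by simp⟩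

theorem mul_mem_D {m m' : ℤ} {q : ℕ} {s : Fin q → Fin (n + 1)} {x y : Af f s} (hx : x ∈ D f m s)
    (hy : y ∈ D f m' s) : x * y ∈ D f (m + m') s := by
  obtain ⟨x, hx, rfl⟩ := hx
  obtain ⟨y, hy, rfl⟩ := hy
  exact ⟨x * y, mul_mem_supported hx hy, phi_mul (unitsOn_Af f s) hx hy⟩

theorem algebraMap_mem_D {q : ℕ} (s : Fin q → Fin (n + 1)) (a : Γ(X, ⊤)) :
    algebraMap Γ(X, ⊤) (Af f s) a ∈ D f 0 s := by
  rw [Algebra.algebraMap_eq_smul_one]
  exact Submodule.smul_mem _ a (one_mem_D f s)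

theorem pow_mem_D {q : ℕ} {s : Fin q → Fin (n + 1)} {x : Af f s} (hx : x ∈ D f 0 s) :
    ∀ N : ℕ, x ^ N ∈ D f 0 s
  | 0 => by rw [pow_zero]; exact one_mem_D f s
  | N + 1 => by rw [pow_succ]; simpa using mul_mem_D f (pow_mem_D hx N) hx

theorem isUnit_self {q : ℕ} (s : Fin q → Fin (n + 1)) {k : Fin (n + 1)} (hk : k ∈ img s) :
    IsUnit (algebraMap Γ(X, ⊤) (Af f s) (f k)) := unitsOn_Af f s k hk

theorem phi_ratio {q : ℕ} (s : Fin q → Fin (n + 1)) {k : Fin (n + 1)} (hk : k ∈ img s) (l : Fin (n + 1)) :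
    algebraMap Γ(X, ⊤) (Af f s) (f k) * phi f (Af f s) (mon (Pi.single l 1 - Pi.single k 1)) =
      algebraMap Γ(X, ⊤) (Af f s) (f l) := by
  classical
  have h1 := fpow_single f (Af f s) k 1
  have h2 := fpow_single f (Af f s) l 1
  rw [Nat.cast_one, pow_one] at h1 h2
  rw [phi_mon, ← h1, ← h2, ← fpow_add f _ (fun j => ?_), add_sub_cancel]
  by_cases hj : j = k
  · exact Or.inr (hj ▸ isUnit_self f s hk)
  · refine Or.inl ⟨by simp [hj], ?_⟩
    simp only [Pi.sub_apply, Pi.single_apply, if_neg hj, sub_zero]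
    split_ifs <;> simp

theorem ratio_mem_expSet {q : ℕ} (s : Fin q → Fin (n + 1)) {k : Fin (n + 1)} (hk : k ∈ img s) (l : Fin (n + 1)) :
    (Pi.single l 1 - Pi.single k 1 : Fin (n + 1) → ℤ) ∈ expSet (img s) 0 := by
  refine ⟨fun j hj => ?_, by simp⟩
  have hjk : j ≠ k := fun h => hj (h ▸ hk)
  simp only [Pi.sub_apply, Pi.single_apply, if_neg hjk, sub_zero]
  split_ifs <;> simp

theorem phi_ratExp {q : ℕ} (s : Fin (q + 1) → Fin (n + 1)) :
    algebraMap Γ(X, ⊤) (Af f s) (f (s 0)) ^ (q + 1) * phi f (Af f s) (mon (ratExp s)) =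
      algebraMap Γ(X, ⊤) (Af f s) (∏ i, f (s i)) := by
  rw [phi_mon, ← fpow_single f (Af f s) (s 0) (q + 1), ← fpow_add f _ (fun j => ?_), ratExp, Nat.cast_succ,
    add_sub_cancel]
  · exact fpow_sum_single f _ s Finset.univ
  · rcases eq_or_ne j (s 0) with rfl | hj
    · exact Or.inr (isUnit_self f s (mem_img.2 ⟨0, rfl⟩))
    · exact Or.inl ⟨by simp [hj], (ratExp_mem s).1 j (by simpa using hj)⟩

theorem phi_ratExp_mul_neg {q : ℕ} (s : Fin (q + 1) → Fin (n + 1)) :
    phi f (Af f s) (mon (ratExp s)) * phi f (Af f s) (mon (-ratExp s)) = 1 := by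
  rw [← phi_mul (unitsOn_Af f s) (mon_mem_U (expSet_mono (singleton_subset s) 0 (ratExp_mem s)))
    (mon_mem_U (neg_ratExp_mem s)), AddMonoidAlgebra.single_mul_single, add_neg_cancel, one_mul,
    ← AddMonoidAlgebra.one_def, phi_one]

end D0

variable {q : ℕ} (s : Fin (q + 1) → Fin (n + 1))

/-- `A[1 / f k] → A[1 / ∏ f]` for the first index `k`. -/
noncomputable def kap : Localization.Away (f (s 0)) →ₐ[Γ(X, ⊤)] Af f s :=
  IsLocalization.liftAlgHom (M := Submonoid.powers (f (s 0))) (f := Algebra.ofId Γ(X, ⊤) (Af f s)) (by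
    rintro ⟨_, e, rfl⟩
    rw [Algebra.ofId_apply, map_pow]
    exact (isUnit_self f s (mem_img.2 ⟨0, rfl⟩)).pow e)

variable (I) in
/-- The chart ring of the first index in `A[1 / ∏ f]`. -/
noncomputable def chartIn : ChartRing I (topAff X) (f (s 0)) →ₐ[Γ(X, ⊤)] Af f s :=
  (kap f s).comp (BlowUp.affineAlgebra Γ(X, ⊤) (I.ideal (topAff X)) (f (s 0))).val

theorem chartIn_frac (x : Γ(X, ⊤)) (hx : x ∈ I.ideal (topAff X)) :
    chartIn I f s (frac x hx) * algebraMap Γ(X, ⊤) (Af f s) (f (s 0)) = algebraMap Γ(X, ⊤) (Af f s) x := by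
  have h : (frac x hx : ChartRing I (topAff X) (f (s 0))) * algebraMap Γ(X, ⊤) _ (f (s 0)) = algebraMap Γ(X, ⊤) _ x :=
    frac_mul (I := I) (U := topAff X) (a := f (s 0)) x hx
  rw [← (chartIn I f s).commutes (f (s 0)), ← (chartIn I f s).commutes x, ← map_mul, h]

include hspan in
theorem chartIn_frac_eq (l : Fin (n + 1)) :
    chartIn I f s (frac (f l) (f_mem f hspan l)) = phi f (Af f s) (mon (Pi.single l 1 - Pi.single (s 0) 1)) :=
  (isUnit_self f s (mem_img.2 ⟨0, rfl⟩)).mul_right_cancel (by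
    rw [chartIn_frac, mul_comm, phi_ratio f s (mem_img.2 ⟨0, rfl⟩) l])

include hspan in
theorem chartIn_mem (c : ChartRing I (topAff X) (f (s 0))) : chartIn I f s c ∈ D f 0 s := by
  obtain ⟨c, hc⟩ := c
  have hc' : c ∈ (MvPolynomial.aeval (R := Γ(X, ⊤)) (ratio f (s 0))).range := by
    rw [range_aeval_ratio f (s 0) hspan]; exact hc
  obtain ⟨p, rfl⟩ := hc'
  show kap f s (MvPolynomial.aeval (ratio f (s 0)) p) ∈ _
  clear hc
  induction p using MvPolynomial.induction_on with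
  | C a => rw [MvPolynomial.aeval_C, AlgHom.commutes]; exact algebraMap_mem_D f s a
  | add p p' hp hp' => rw [map_add, map_add]; exact add_mem hp hp'
  | mul_X p j hp =>
    rw [map_mul, map_mul, MvPolynomial.aeval_X]
    suffices h' : kap f s (ratio f (s 0) j) ∈ D f 0 s by
      have := mul_mem_D f hp h'
      rwa [add_zero] at this
    have h : kap f s (ratio f (s 0) j) =
        phi f (Af f s) (mon (Pi.single ((s 0).succAbove j) 1 - Pi.single (s 0) 1)) :=
      (isUnit_self f s (mem_img.2 ⟨0, rfl⟩)).mul_left_cancel (by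
        rw [phi_ratio f s (mem_img.2 ⟨0, rfl⟩), ← (kap f s).commutes, ← map_mul, algebraMap_mul_ratio,
          AlgHom.commutes])
    rw [h]
    exact phi_mem_D f (mon_mem_U (ratio_mem_expSet s (mem_img.2 ⟨0, rfl⟩) _))

include hspan in
theorem exists_chartIn_eq {y : Laurent Γ(X, ⊤) (n + 1)} (hy : y ∈ U ({s 0} : Finset (Fin (n + 1))) 0) :
    ∃ c : ChartRing I (topAff X) (f (s 0)), chartIn I f s c = phi f (Af f s) y := by
  obtain ⟨p, rfl⟩ := exists_chartEmb (s 0) hy
  have hsub := expSet_mono (singleton_subset s) 0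
  have hT := unitsOn_Af f s
  clear hy
  induction p using MvPolynomial.induction_on with
  | C a =>
    refine ⟨algebraMap _ _ a, ?_⟩
    rw [AlgHom.commutes, ← MvPolynomial.algebraMap_eq, AlgHom.commutes, Algebra.algebraMap_eq_smul_one (A := Laurent _ _),
      map_smul, phi_one, ← Algebra.algebraMap_eq_smul_one]
  | add p p' hp hp' =>
    obtain ⟨c, hc⟩ := hp
    obtain ⟨c', hc'⟩ := hp'
    exact ⟨c + c', by rw [map_add, map_add, map_add, hc, hc']⟩
  | mul_X p l hp =>
    obtain ⟨c, hc⟩ := hp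
    have hl : ∃ d : ChartRing I (topAff X) (f (s 0)), chartIn I f s d = phi f (Af f s) (mon (wexp (s 0) l)) := by
      unfold wexp
      split_ifs with h
      · refine ⟨algebraMap _ _ (f (s 0)), ?_⟩
        have h1 := fpow_single f (Af f s) (s 0) 1
        rw [Nat.cast_one, pow_one] at h1
        rw [AlgHom.commutes, phi_mon, h1]
      · exact ⟨_, chartIn_frac_eq f hspan s l⟩
    obtain ⟨d, hd⟩ := hl
    refine ⟨c * d, ?_⟩
    rw [map_mul, map_mul, chartEmb_X, hc, hd,
      phi_mul hT (U_mono (singleton_subset s) 0 (chartEmb_mem (s 0) p))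
        (mon_mem_U (hsub (by rw [← expMap_single]; exact expMap_mem _ _)))]

include hb hspan in
/-- The functions on the intersection are a localisation of those of the first chart. -/
theorem exists_model : ∃ (θ : ChartRing I (topAff X) (f (s 0)) →+* Γ(X', WI b f I s))
    (u₀ : ChartRing I (topAff X) (f (s 0))),
    IsUnit (θ u₀) ∧ (∀ z, ∃ (N : ℕ) (c : ChartRing I (topAff X) (f (s 0))), z * θ u₀ ^ N = θ c) ∧
    (∀ c, rho b f hb hspan s (θ c) = chartIn I f s c) ∧
    (∀ c, chartIn I f s c = 0 → θ c = 0) ∧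
    chartIn I f s u₀ = phi f (Af f s) (mon (ratExp s)) := by
  obtain ⟨ψ, hψ⟩ := exists_chartRingEquiv b f hb hspan (s 0)
  let k := s 0
  let T : X'.affineOpens := ⟨chartW I b f k, isAffineOpen_chartW b f hb hspan k⟩
  let r : Fin (n + 1) → Γ(X', T.1) := fun j => ψ (frac (f j) (f_mem f hspan j))
  have hr : ∀ j, r j * (b.appLE ⊤ T.1 le_top).hom (f k) = (b.appLE ⊤ T.1 le_top).hom (f j) := fun j => by
    show ψ (frac (f j) (f_mem f hspan j)) * (b.appLE ⊤ (chartW I b f (s 0)) le_top).hom (f (s 0)) = _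
    rw [← hψ, ← map_mul, frac_mul, hψ]
  have hideal : (I.comap b).ideal T = Ideal.span {(b.appLE ⊤ T.1 le_top).hom (f k)} := by
    rw [ProjLib.comap_ideal_eq I b (topAff X) T le_top, hspan, Ideal.map_span]
    refine le_antisymm (Ideal.span_le.2 ?_) (Ideal.span_le.2 ?_)
    · rintro _ ⟨_, ⟨j, rfl⟩, rfl⟩
      exact Ideal.mem_span_singleton'.2 ⟨r j, hr j⟩
    · rintro _ rfl
      exact Ideal.subset_span ⟨_, ⟨k, rfl⟩, rfl⟩
  have hnzd := mem_nonZeroDivisors_of_eff hb.1 hideal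
  have hbasic : ∀ j, T.1 ⊓ chartW I b f j = X'.basicOpen (r j) := fun j => by
    refine le_antisymm (fun z hz => ?_) (le_inf (X'.basicOpen_le _) fun z hz => ?_)
    · obtain ⟨V, hzV, eV, hV⟩ := mem_locus.1 hz.2
      obtain ⟨_, ⟨V', hV', rfl⟩, hzV', hle⟩ := X'.isBasis_affineOpens.exists_subset_of_mem_open
        (show z ∈ T.1 ⊓ V.1 from ⟨hz.1, hzV⟩) (T.1 ⊓ V.1).isOpen
      have hTV : V' ≤ T.1 := fun w hw => (hle hw).1
      obtain ⟨eV', hV''⟩ := Generates.mono (V' := ⟨V', hV'⟩) (show Generates I b (topAff X) (f j) V from ⟨eV, hV⟩)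
        fun w hw => (hle hw).2
      have h1 : (I.comap b).ideal ⟨V', hV'⟩ = Ideal.span {rs hTV ((b.appLE ⊤ T.1 le_top).hom (f k))} :=
        ideal_restrict (I.comap b) (U := T) (V := ⟨V', hV'⟩) hTV hideal
      obtain ⟨d, hd⟩ := Ideal.mem_span_singleton'.1 (hV''.le (h1.ge (Ideal.mem_span_singleton_self _)))
      refine le_basicOpen_of_isUnit hTV (r j) ?_ hzV'
      refine IsUnit.of_mul_eq_one d ?_
      refine (mul_cancel_right_mem_nonZeroDivisors (mem_nonZeroDivisors_of_eff hb.1 h1)).1 ?_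
      rw [one_mul, mul_right_comm, ← map_mul, hr, mul_comm _ d]
      refine Eq.trans ?_ hd
      exact congrArg (d * ·) (ConcreteCategory.congr_hom (b.appLE_map le_top (homOfLE hTV).op) (f j))
    · exact mem_locus.2 ⟨X'.affineBasicOpen (r j), hz, generates_of_isUnit (V := T)
        (V' := X'.affineBasicOpen (r j)) (X'.basicOpen_le _) le_top hideal (hr j)
        (RingedSpace.isUnit_res_basicOpen X'.toRingedSpace (r j))⟩
  let u₀ : ChartRing I (topAff X) (f (s 0)) := ∏ i, frac (f (s i)) (f_mem f hspan (s i))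
  have hW : WI b f I s = X'.basicOpen (ψ u₀) := by
    have hprod : ∀ S : Finset (Fin (q + 1)), X'.basicOpen (∏ i ∈ S, r (s i)) =
        T.1 ⊓ S.inf fun i => chartW I b f (s i) := fun S => by
      induction S using Finset.induction_on with
      | empty =>
        rw [Finset.prod_empty, Finset.inf_empty, inf_top_eq]
        exact X'.basicOpen_of_isUnit isUnit_one
      | insert i S hi ih =>
        rw [Finset.prod_insert hi, Finset.inf_insert, Scheme.basicOpen_mul, ih, ← hbasic (s i)]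
        rw [inf_inf_inf_comm, inf_idem]
    have hu : X'.basicOpen (ψ u₀) = T.1 ⊓ Finset.univ.inf fun i => chartW I b f (s i) := by
      rw [← hprod, map_prod]
    rw [hu, WI, Finset.inf_univ_eq_iInf]
    exact (inf_eq_right.2 (iInf_le (fun i => chartW I b f (s i)) 0)).symm
  have hle : WI b f I s ≤ T.1 := hW ▸ X'.basicOpen_le _
  let θ : ChartRing I (topAff X) (f (s 0)) →+* Γ(X', WI b f I s) := (rs hle).comp ψ.toRingHom
  have hloc : ∀ (V : X'.Opens) (hV : V = X'.basicOpen (ψ u₀)) (hVT : V ≤ T.1) (z : Γ(X', V)),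
      IsUnit (rs hVT (ψ u₀)) ∧ ∃ (N : ℕ) (y : Γ(X', T.1)), z * rs hVT (ψ u₀) ^ N = rs hVT y := by
    rintro V rfl hVT z
    haveI := T.2.isLocalization_basicOpen (ψ u₀)
    refine ⟨IsLocalization.Away.algebraMap_isUnit (S := Γ(X', X'.basicOpen (ψ u₀))) (ψ u₀), ?_⟩
    obtain ⟨N, y, hy⟩ := IsLocalization.Away.surj (S := Γ(X', X'.basicOpen (ψ u₀))) (ψ u₀) z
    exact ⟨N, y, hy⟩
  have hρ : ∀ c, rho b f hb hspan s (θ c) = chartIn I f s c := by
    have hα : ∀ a, rho b f hb hspan s (θ (algebraMap Γ(X, ⊤) _ a)) = chartIn I f s (algebraMap Γ(X, ⊤) _ a) := by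
      intro a
      rw [AlgHom.commutes, ← rho_appLE b f hb hspan s a]
      refine congrArg _ ?_
      show rs hle (ψ (algebraMap Γ(X, ⊤) _ a)) = _
      rw [hψ]
      exact ConcreteCategory.congr_hom (b.appLE_map le_top (homOfLE hle).op) a
    rintro ⟨c, hc⟩
    let ρθ := (rho b f hb hspan s).comp θ
    show ρθ ⟨c, hc⟩ = _
    induction hc using Algebra.adjoin_induction with
    | algebraMap a => exact hα a
    | add x y hx hy hx' hy' =>
      exact (map_add ρθ ⟨x, hx⟩ ⟨y, hy⟩).trans ((congrArg₂ (· + ·) hx' hy').trans (map_add (chartIn I f s) _ _).symm)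
    | mul x y hx hy hx' hy' =>
      exact (map_mul ρθ ⟨x, hx⟩ ⟨y, hy⟩).trans ((congrArg₂ (· * ·) hx' hy').trans (map_mul (chartIn I f s) _ _).symm)
    | mem z hz =>
      obtain ⟨x, hx, rfl⟩ := hz
      refine (isUnit_self f s (mem_img.2 ⟨0, rfl⟩)).mul_right_cancel ?_
      show ρθ (frac x hx) * _ = chartIn I f s (frac x hx) * _
      rw [chartIn_frac, ← (chartIn I f s).commutes (f (s 0)), ← hα, ← (chartIn I f s).commutes x, ← hα]
      exact (map_mul ρθ _ _).symm.trans (congrArg ρθ (frac_mul x hx))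
  have hker : ∀ c, chartIn I f s c = 0 → θ c = 0 := by
    intro c h0
    let K := Localization.Away (f (s 0))
    obtain ⟨⟨a, d⟩, had⟩ := IsLocalization.surj (Submonoid.powers (f (s 0))) (c : K)
    have ha : algebraMap Γ(X, ⊤) (Af f s) a = 0 := by
      rw [← (kap f s).commutes, ← had, map_mul]
      exact mul_eq_zero_of_left h0 _
    obtain ⟨⟨_, M, rfl⟩, hM⟩ := (IsLocalization.map_eq_zero_iff (Submonoid.powers (∏ i, f (s i))) (Af f s) _).1 ha
    have hu' : algebraMap Γ(X, ⊤) K (f (s 0)) ^ (q + 1) * (u₀ : K) = algebraMap Γ(X, ⊤) K (∏ i, f (s i)) := by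
      have h := congrArg Subtype.val (show algebraMap Γ(X, ⊤) (ChartRing I (topAff X) (f (s 0))) (f (s 0)) ^ (q + 1) * u₀ =
          algebraMap Γ(X, ⊤) _ (∏ i, f (s i)) by
        rw [map_prod,
          show algebraMap Γ(X, ⊤) (ChartRing I (topAff X) (f (s 0))) (f (s 0)) ^ (q + 1) =
            ∏ _i : Fin (q + 1), algebraMap Γ(X, ⊤) (ChartRing I (topAff X) (f (s 0))) (f (s 0)) by simp,
          ← Finset.prod_mul_distrib]
        exact Finset.prod_congr rfl fun i _ => by rw [mul_comm]; exact frac_mul _ _)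
      exact h
    have hunit : IsUnit (algebraMap Γ(X, ⊤) K d.1 * (algebraMap Γ(X, ⊤) K (f (s 0)) ^ (q + 1)) ^ M) :=
      (IsLocalization.map_units K d).mul (((IsLocalization.Away.algebraMap_isUnit (f (s 0))).pow _).pow _)
    have hzero : (u₀ : K) ^ M * (c : K) = 0 := by
      refine hunit.mul_right_eq_zero.1 ?_
      calc algebraMap Γ(X, ⊤) K d.1 * (algebraMap Γ(X, ⊤) K (f (s 0)) ^ (q + 1)) ^ M * ((u₀ : K) ^ M * (c : K))
          = (algebraMap Γ(X, ⊤) K (f (s 0)) ^ (q + 1) * (u₀ : K)) ^ M * ((c : K) * algebraMap Γ(X, ⊤) K d.1) := by ring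
        _ = algebraMap Γ(X, ⊤) K ((∏ i, f (s i)) ^ M * a) := by rw [hu', had, map_mul, map_pow]
        _ = 0 := by rw [hM, map_zero]
    have h1 : u₀ ^ M * c = 0 := Subtype.ext hzero
    have h2 := congrArg θ h1
    rw [map_mul, map_pow, map_zero] at h2
    exact ((hloc _ hW hle 0).1.pow M).mul_right_eq_zero.1 h2
  refine ⟨θ, u₀, (hloc _ hW hle 0).1, fun z => ?_, hρ, hker, ?_⟩
  · obtain ⟨N, y, hy⟩ := (hloc _ hW hle z).2
    exact ⟨N, ψ.symm y, hy.trans (congrArg (rs hle) (ψ.apply_symm_apply y).symm)⟩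
  · refine ((isUnit_self f s (mem_img.2 ⟨0, rfl⟩)).pow (q + 1)).mul_left_cancel ?_
    rw [phi_ratExp, map_prod, map_prod,
      show algebraMap Γ(X, ⊤) (Af f s) (f (s 0)) ^ (q + 1) = ∏ _i : Fin (q + 1), algebraMap Γ(X, ⊤) (Af f s) (f (s 0)) by
        simp, ← Finset.prod_mul_distrib]
    exact Finset.prod_congr rfl fun i _ => by rw [mul_comm]; exact chartIn_frac f s _ _

include hb hspan in
theorem rho_injective : Function.Injective (rho b f hb hspan s) := by
  obtain ⟨θ, u₀, hu, hsurj, hρ, hker, -⟩ := exists_model b f hb hspan s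
  rw [injective_iff_map_eq_zero]
  intro z hz
  obtain ⟨N, c, hc⟩ := hsurj z
  have h1 := hker c (by rw [← hρ, ← hc, map_mul, hz, zero_mul])
  exact (hu.pow N).mul_left_eq_zero.1 (hc.trans h1)

include hb hspan in
theorem rho_mem (z : Γ(X', WI b f I s)) : rho b f hb hspan s z ∈ D f 0 s := by
  obtain ⟨θ, u₀, -, hsurj, hρ, -, hu₀⟩ := exists_model b f hb hspan s
  obtain ⟨N, c, hc⟩ := hsurj z
  have h := congrArg (rho b f hb hspan s) hc
  rw [map_mul, map_pow, hρ, hρ, hu₀] at h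
  have hneg : phi f (Af f s) (mon (-ratExp s)) ∈ D f 0 s := phi_mem_D f (mon_mem_U (neg_ratExp_mem s))
  have e : rho b f hb hspan s z = chartIn I f s c * phi f (Af f s) (mon (-ratExp s)) ^ N := by
    rw [← h, mul_assoc, ← mul_pow, phi_ratExp_mul_neg, one_pow, mul_one]
  rw [e]
  have := mul_mem_D f (chartIn_mem f hspan s c) (pow_mem_D f hneg N)
  rwa [add_zero] at this

include hb hspan in
theorem exists_rho_eq {x : Af f s} (hx : x ∈ D f 0 s) : ∃ z, rho b f hb hspan s z = x := by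
  obtain ⟨θ, u₀, hu, -, hρ, -, hu₀⟩ := exists_model b f hb hspan s
  obtain ⟨y, hy, rfl⟩ := hx
  obtain ⟨N, hN⟩ := exists_shift s hy
  obtain ⟨c, hc⟩ := exists_chartIn_eq f hspan s (hN N le_rfl)
  refine ⟨θ c * ↑(hu.unit⁻¹) ^ N, ?_⟩
  have hpow : ∀ e : ℕ, phi f (Af f s) (mon ((e : ℤ) • ratExp s)) = phi f (Af f s) (mon (ratExp s)) ^ e := fun e => by
    induction e with
    | zero =>
      rw [Nat.cast_zero, zero_smul, pow_zero, phi_mon, fpow_zero]
    | succ e ih =>
      have h1 : (e : ℤ) • ratExp s ∈ expSet (img s) 0 := by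
        refine expSet_mono (singleton_subset s) 0 ⟨fun j hj => ?_, ?_⟩
        · simpa using mul_nonneg (Int.natCast_nonneg e) ((ratExp_mem s).1 j hj)
        · simp [← Finset.mul_sum, sum_ratExp]
      rw [Nat.cast_succ, add_smul, one_smul, pow_succ, ← ih, ← phi_mul (unitsOn_Af f s) (mon_mem_U h1)
        (mon_mem_U (expSet_mono (singleton_subset s) 0 (ratExp_mem s))), AddMonoidAlgebra.single_mul_single, one_mul]
  have hinv : rho b f hb hspan s ↑(hu.unit⁻¹) * phi f (Af f s) (mon (ratExp s)) = 1 := by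
    rw [← hu₀, ← hρ, ← map_mul, IsUnit.val_inv_mul, map_one]
  have hN0 : (mon ((N : ℤ) • ratExp s) : Laurent Γ(X, ⊤) (n + 1)) ∈ U (img s) 0 := by
    refine mon_mem_U (expSet_mono (singleton_subset s) 0 ⟨fun j hj => ?_, ?_⟩)
    · simpa using mul_nonneg (Int.natCast_nonneg N) ((ratExp_mem s).1 j hj)
    · simp [← Finset.mul_sum, sum_ratExp]
  rw [map_mul, map_pow, hρ, hc, phi_mul (unitsOn_Af f s) hy hN0, hpow, mul_assoc, ← mul_pow, mul_comm (phi f _ (mon (ratExp s))),
    hinv, one_pow, mul_one]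

end Groth.Agent.BlowUpCoh
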