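import Groth.Agent.BlowUpCoh.Regular
import Groth.Agent.MorProj.OmegaAffine
import Groth.Agent.Coherent.FiniteType

/-!
# The canonical section of a twist of negative exponent
-/

set_option autoImplicit false
set_option backward.isDefEq.respectTransparency.types false
set_option linter.style.haveILetI false

universe u

open CategoryTheory CategoryTheory.Limits AlgebraicGeometry TopologicalSpace Opposite
open Groth.Agent.Coherent Groth.Agent.PicLib Groth.Agent.AmpleLib

namespace Groth.Agent.BlowUpCoh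

local notation "rs" => Groth.Agent.ModPairLib.res

variable {Y : Scheme.{u}} {J : Y.IdealSheafData} {M : Y.Modules}

/-- Two regular generators of the same ideal differ by a unit. -/
theorem exists_unit_mul_eq {R : Type u} [CommRing R] {a c : R} (ha : a ∈ nonZeroDivisors R)
    (h : Ideal.span {c} = Ideal.span {a}) : ∃ u : Rˣ, (u : R) * a = c := by
  obtain ⟨r, hr⟩ := Ideal.mem_span_singleton'.1 (h.le (Ideal.mem_span_singleton_self c))
  obtain ⟨r', hr'⟩ := Ideal.mem_span_singleton'.1 (h.ge (Ideal.mem_span_singleton_self a))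
  refine ⟨⟨r, r', ?_, ?_⟩, hr⟩ <;>
    exact (mul_cancel_right_mem_nonZeroDivisors ha).1 (by
      first
        | rw [mul_assoc r', hr, hr', one_mul]
        | rw [mul_comm r, mul_assoc r', hr, hr', one_mul])

/-- A twist of exponent `-j` has the section equal to `a ^ j` for every generator `a`. -/
theorem exists_canonical_section (hJ : BlowUp.IsEffCartierIdeal J) (j : ℕ) (T : TwistData J M (-(j : ℤ))) :
    ∃ ξ : Γ(M, ⊤), ∀ (W : Y.affineOpens) (a : Γ(Y, W.1)), J.ideal W = Ideal.span {a} →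
      a ∈ nonZeroDivisors Γ(Y, W.1) → T.toFun W a (resM M le_top ξ) = a ^ j := by
  let ι : Type u := Σ' (W : Y.affineOpens) (a : Γ(Y, W.1)),
    J.ideal W = Ideal.span {a} ∧ a ∈ nonZeroDivisors Γ(Y, W.1)
  have hx : ∀ i : ι, ∃ x : Γ(M, i.1.1), T.toFun i.1 i.2.1 x = i.2.1 ^ j := fun i =>
    (T.bij i.1 i.2.1 i.2.2.1 i.2.2.2).2 _
  choose x hx using hx
  have hloc : ∀ (i : ι) (V : Y.affineOpens) (h : V.1 ≤ i.1.1) (c : Γ(Y, V.1)), J.ideal V = Ideal.span {c} →
      c ∈ nonZeroDivisors Γ(Y, V.1) → T.toFun V c (resM M h (x i)) = c ^ j := by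
    intro i V h c hc hcn
    have ha := ModPairLib.ideal_restrict J h i.2.2.1
    have han := ModPairLib.res_mem_nonZeroDivisors h i.2.2.2
    obtain ⟨u, hu⟩ := exists_unit_mul_eq hcn (ha.symm.trans hc)
    have e : T.toFun V (rs h i.2.1) (resM M h (x i)) = (rs h i.2.1) ^ j := by
      rw [← T.natural i.1 V h i.2.1 (x i) i.2.2.1 i.2.2.2, hx, map_pow]
    rw [T.units V c u _ hc hcn, hu, e, ← hu, mul_pow, zpow_neg, zpow_natCast, ← mul_assoc,
      ← Units.val_pow_eq_pow_val, Units.inv_mul, one_mul]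
  let U : ι → Y.Opens := fun i => i.1.1
  have hcov : (⊤ : Y.Opens) ≤ iSup U := fun z _ => by
    obtain ⟨W, hzW, a, han, ha⟩ := hJ z
    exact Opens.mem_iSup.2 ⟨⟨W, a, ha, han⟩, hzW⟩
  have hcompat : ∀ i i' : ι, resM M (inf_le_left : U i ⊓ U i' ≤ U i) (x i) =
      resM M (inf_le_right : U i ⊓ U i' ≤ U i') (x i') := by
    intro i i'
    refine sec_ext M _ _ fun z hz => ?_
    obtain ⟨V, hV, hzV, hVW⟩ := Opens.isBasis_iff_nbhd.mp Y.isBasis_affineOpens hz
    refine ⟨V, hVW, hzV, ?_⟩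
    rw [resM_resM, resM_resM]
    have hl : V ≤ i.1.1 := hVW.trans inf_le_left
    have ha := ModPairLib.ideal_restrict J (V := ⟨V, hV⟩) hl i.2.2.1
    have han := ModPairLib.res_mem_nonZeroDivisors (V := ⟨V, hV⟩) hl i.2.2.2
    refine (T.bij ⟨V, hV⟩ _ ha han).1 ?_
    rw [hloc i ⟨V, hV⟩ hl _ ha han, hloc i' ⟨V, hV⟩ (hVW.trans inf_le_right) _ ha han]
  obtain ⟨ξ, hξ, -⟩ := TopCat.Sheaf.existsUnique_gluing' (⟨M.presheaf, M.isSheaf⟩ : TopCat.Sheaf Ab Y)
    U ⊤ (fun i => homOfLE le_top) hcov x hcompat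
  refine ⟨ξ, fun W a ha han => ?_⟩
  rw [show resM M (le_top : W.1 ≤ ⊤) ξ = x ⟨W, a, ha, han⟩ from hξ ⟨W, a, ha, han⟩]
  exact hx ⟨W, a, ha, han⟩

variable {X X' : Scheme.{u}} {I : X.IdealSheafData} {b : X' ⟶ X} (hb : BlowUp.IsBlowUp b I) {k : ℕ}
  (hI : KoszulBasis I k)

include hb hI in
/-- The direct image of a twist of exponent `-j`, `0 ≤ j ≤ k`, is the structure sheaf. -/
theorem nonempty_pushforward_iso {M : X'.Modules} (j : ℕ) (hj : j ≤ k) (T : TwistData (I.comap b) M (-(j : ℤ))) :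
    Nonempty ((Scheme.Modules.pushforward b).obj M ≅ Coh.structureModule X) := by
  obtain ⟨ξ, hξ⟩ := exists_canonical_section hb.1 j T
  let ψ := unitDesc ((Scheme.Modules.pushforward b).obj M) (show Γ((Scheme.Modules.pushforward b).obj M, ⊤) from ξ)
  haveI := isIso_of_section hb hI j hj T ξ hξ ψ fun V r => by
    refine (app_unit ψ r).trans ?_
    rw [unitVal_unitDesc]
    rfl
  exact ⟨(asIso ψ).symm⟩

end Groth.Agent.BlowUpCoh
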