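import Groth.Agent.CAlgH.KoszulRegular

/-!
# Exact complexes stay exact modulo a sequence Koszul regular on their terms
-/

set_option autoImplicit false
set_option backward.isDefEq.respectTransparency false

universe u

open TensorProduct LinearMap
open Groth.Agent.Disc12.Koszul Groth.Agent.CAlgH.KoszulRegular

namespace Groth.Agent.BlowUpCoh

variable {R : Type u} [CommRing R] {r : ℕ} (f : Fin r → R)

/-- The sequence `f` is Koszul regular on `M`. -/
def KRegOn (M : Type u) [AddCommGroup M] [Module R M] : Prop :=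
  ∀ p, Function.Exact ((d f (p + 1)).lTensor M) ((d f p).lTensor M)

theorem KRegOn.of_equiv {M N : Type u} [AddCommGroup M] [Module R M] [AddCommGroup N] [Module R N]
    (e : M ≃ₗ[R] N) (h : KRegOn f M) : KRegOn f N := fun p =>
  Function.Exact.of_ladder_linearEquiv_of_exact
    (e₁ := e.rTensor (K R r (p + 2))) (e₂ := e.rTensor (K R r (p + 1))) (e₃ := e.rTensor (K R r p))
    (TensorProduct.ext' fun x y => by simp) (TensorProduct.ext' fun x y => by simp) (h p)

/-- On an algebra, this is Koszul regularity of the images. -/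
theorem kRegOn_of_kreg {S : Type u} [CommRing S] [Algebra R S]
    (h : KReg fun i => algebraMap R S (f i)) : KRegOn f S := fun p => by
  have hp := (Function.Exact.iff_of_ladder_linearEquiv (baseChange_comm (S := S) f (p + 1))
    (baseChange_comm (S := S) f p)).1 (h p)
  exact hp

theorem kRegOn_pi {ι : Type} [Fintype ι] [DecidableEq ι] (M : ι → Type u) [∀ i, AddCommGroup (M i)]
    [∀ i, Module R (M i)] (h : ∀ i, KRegOn f (M i)) : KRegOn f (∀ i, M i) := fun p => by
  refine Function.Exact.of_ladder_linearEquiv_of_exact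
    (f₁₂ := LinearMap.piMap fun i => (d f (p + 1)).lTensor (M i))
    (f₂₃ := LinearMap.piMap fun i => (d f p).lTensor (M i))
    (e₁ := (TensorProduct.piLeft R (K R r (p + 2)) M).symm)
    (e₂ := (TensorProduct.piLeft R (K R r (p + 1)) M).symm)
    (e₃ := (TensorProduct.piLeft R (K R r p) M).symm) ?_ ?_ ?_
  · refine LinearMap.ext fun x => (TensorProduct.piLeft R _ M).injective ?_
    obtain ⟨y, rfl⟩ := (TensorProduct.piLeft R _ M).surjective x
    simp only [LinearMap.comp_apply, LinearEquiv.coe_coe, LinearEquiv.symm_apply_apply, LinearEquiv.apply_symm_apply]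
    induction y with
    | zero => simp only [map_zero]
    | tmul a b => funext i; rfl
    | add a b ha hb => simp only [map_add, ha, hb]
  · refine LinearMap.ext fun x => (TensorProduct.piLeft R _ M).injective ?_
    obtain ⟨y, rfl⟩ := (TensorProduct.piLeft R _ M).surjective x
    simp only [LinearMap.comp_apply, LinearEquiv.coe_coe, LinearEquiv.symm_apply_apply, LinearEquiv.apply_symm_apply]
    induction y with
    | zero => simp only [map_zero]
    | tmul a b => funext i; rfl
    | add a b ha hb => simp only [map_add, ha, hb]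
  · refine LinearMap.exact_iff.2 (le_antisymm (fun x hx => ?_) ?_)
    · choose y hy using fun i => ((h i p) (x i)).1 (congrFun hx i)
      exact ⟨y, funext hy⟩
    · rintro _ ⟨y, rfl⟩
      exact funext fun i => (h i p).apply_apply_eq_zero (y i)

variable (C : ℕ → Type u) [∀ q, AddCommGroup (C q)] [∀ q, Module R (C q)]
variable (δ : ∀ q, C q →ₗ[R] C (q + 1))

theorem flat_K (p : ℕ) : Module.Flat R (K R r p) :=
  have := Module.Free.of_basis ((Pi.basisFun R (Fin r)).exteriorPower p)
  inferInstance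

theorem comm_delta (q p : ℕ) (x : C q ⊗[R] K R r (p + 1)) :
    (δ q).rTensor (K R r p) ((d f p).lTensor (C q) x) = (d f p).lTensor (C (q + 1)) ((δ q).rTensor _ x) := by
  rw [← LinearMap.comp_apply, ← LinearMap.comp_apply, rTensor_comp_lTensor, lTensor_comp_rTensor]

theorem lTensor_d_d (M : Type u) [AddCommGroup M] [Module R M] (p : ℕ) (x : M ⊗[R] K R r (p + 1 + 1)) :
    (d f p).lTensor M ((d f (p + 1)).lTensor M x) = 0 := by
  rw [← LinearMap.comp_apply, ← lTensor_comp, d_d, lTensor_zero, LinearMap.zero_apply]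

variable (h0 : Function.Injective (δ 0)) (hδ : ∀ q, Function.Exact (δ q) (δ (q + 1)))
  (hK : ∀ q, KRegOn f (C (q + 1)))
include h0 hδ hK

/-- Chases in the double complex, going down in the Koszul degree. -/
theorem chase : ∀ (N j : ℕ), r < j + N →
    (∀ (q : ℕ) (z : C (q + 1) ⊗[R] K R r j),
      (δ (q + 1)).rTensor _ z ∈ range ((d f j).lTensor (C (q + 2))) →
        ∃ y w, z = (δ q).rTensor _ y + (d f j).lTensor (C (q + 1)) w) ∧
    (∀ z : C 0 ⊗[R] K R r j, (δ 0).rTensor _ z ∈ range ((d f j).lTensor (C 1)) →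
        z ∈ range ((d f j).lTensor (C 0)))
  | 0, j, hj => by
    have := subsingleton_K (R := R) (n := r) (p := j) (by omega)
    have hsub : ∀ (q : ℕ) (z : C q ⊗[R] K R r j), z = 0 := fun q z => by
      induction z with
      | zero => rfl
      | tmul a b => rw [Subsingleton.elim b 0, tmul_zero]
      | add a b ha hb => rw [ha, hb, add_zero]
    exact ⟨fun q z _ => ⟨0, 0, by rw [hsub _ z, map_zero, map_zero, add_zero]⟩,
      fun z _ => hsub 0 z ▸ Submodule.zero_mem _⟩
  | N + 1, j, hj => by
    obtain ⟨ih, ih0⟩ := chase N (j + 1) (by omega)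
    have := flat_K (R := R) (r := r) j
    refine ⟨fun q z hz => ?_, fun z hz => ?_⟩
    · obtain ⟨u, hu⟩ := hz
      have h1 : (d f j).lTensor (C (q + 3)) ((δ (q + 2)).rTensor _ u) = 0 := by
        rw [← comm_delta, hu]
        exact (Module.Flat.rTensor_exact _ (hδ (q + 1))).apply_apply_eq_zero z
      obtain ⟨y', w', hu'⟩ := ih (q + 1) u ((hK (q + 2) j _).1 h1)
      have h2 : (δ (q + 1)).rTensor _ (z - (d f j).lTensor (C (q + 1)) y') = 0 := by
        rw [map_sub, comm_delta, ← hu, hu', map_add, lTensor_d_d, add_zero, sub_self]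
      obtain ⟨y, hy⟩ := (Module.Flat.rTensor_exact _ (hδ q) _).1 h2
      exact ⟨y, y', by rw [hy, sub_add_cancel]⟩
    · obtain ⟨u, hu⟩ := hz
      have h1 : (d f j).lTensor (C 2) ((δ 1).rTensor _ u) = 0 := by
        rw [← comm_delta, hu]
        exact (Module.Flat.rTensor_exact _ (hδ 0)).apply_apply_eq_zero z
      obtain ⟨y', w', hu'⟩ := ih 0 u ((hK 1 j _).1 h1)
      have h2 : (δ 0).rTensor _ (z - (d f j).lTensor (C 0) y') = 0 := by
        rw [map_sub, comm_delta, ← hu, hu', map_add, lTensor_d_d, add_zero, sub_self]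
      refine ⟨y', Eq.symm (sub_eq_zero.1 ((Module.Flat.rTensor_preserves_injective_linearMap _ h0) ?_))⟩
      rw [h2, map_zero]

omit h0 hδ hK in
/-- Degree zero of the Koszul complex on `M`. -/
theorem range_lTensor_d_zero (M : Type u) [AddCommGroup M] [Module R M] (x : M) :
    x ⊗ₜ[R] (e0 1 : K R r 0) ∈ range ((d f 0).lTensor M) ↔
      x ∈ Ideal.span (Set.range f) • (⊤ : Submodule R M) := by
  let e : R ≃ₗ[R] K R r 0 := LinearEquiv.ofBijective e0 ⟨fun a b h =>
    (ExteriorAlgebra.algebraMap_leftInverse (Fin r → R)).injective (congrArg Subtype.val h), e0_surjective⟩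
  let T : M ⊗[R] K R r 0 →ₗ[R] M := (TensorProduct.rid R M).toLinearMap ∘ₗ e.symm.toLinearMap.lTensor M
  have hT : ∀ (y : M) (c : R), T (y ⊗ₜ e0 c) = c • y := fun y c => by
    show TensorProduct.rid R M (y ⊗ₜ e.symm (e0 c)) = _
    rw [show e.symm (e0 c) = c from e.symm_apply_apply c, TensorProduct.rid_tmul]
  constructor
  · rintro ⟨z, hz⟩
    have hmem : T ((d f 0).lTensor M z) ∈ Ideal.span (Set.range f) • (⊤ : Submodule R M) := by
      clear hz
      induction z with
      | zero => simp only [map_zero]; exact zero_mem _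
      | tmul a b =>
        obtain ⟨c, hc, hcb⟩ := (range_d_zero f).le ⟨b, rfl⟩
        rw [lTensor_tmul, ← hcb, hT]
        exact Submodule.smul_mem_smul hc trivial
      | add a b ha hb => rw [map_add, map_add]; exact add_mem ha hb
    rwa [hz, hT, one_smul] at hmem
  · intro hx
    induction hx using Submodule.smul_induction_on' with
    | smul c hc y _ =>
      obtain ⟨b, hb⟩ := (range_d_zero f).ge ⟨c, hc, rfl⟩
      refine ⟨y ⊗ₜ b, ?_⟩
      rw [lTensor_tmul, hb, TensorProduct.smul_tmul, ← map_smul, smul_eq_mul, mul_one]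
    | add a _ b _ ha hb => rw [TensorProduct.add_tmul]; exact add_mem ha hb

omit h0 hδ hK in
theorem exists_tmul_e0 (M : Type u) [AddCommGroup M] [Module R M] (y : M ⊗[R] K R r 0) :
    ∃ y₀ : M, y₀ ⊗ₜ[R] (e0 1 : K R r 0) = y := by
  induction y with
  | zero => exact ⟨0, zero_tmul _ _⟩
  | tmul a b =>
    obtain ⟨c, rfl⟩ := e0_surjective b
    exact ⟨c • a, by rw [TensorProduct.smul_tmul, ← map_smul, smul_eq_mul, mul_one]⟩
  | add a b ha hb =>
    obtain ⟨a', rfl⟩ := ha
    obtain ⟨b', rfl⟩ := hb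
    exact ⟨a' + b', add_tmul _ _ _⟩

/-- Exactness modulo the sequence, in degree zero. -/
theorem mem_smul_zero (z : C 0) (hz : δ 0 z ∈ Ideal.span (Set.range f) • (⊤ : Submodule R (C 1))) :
    z ∈ Ideal.span (Set.range f) • (⊤ : Submodule R (C 0)) :=
  (range_lTensor_d_zero f _ z).1 ((chase f C δ h0 hδ hK (r + 1) 0 (by omega)).2 _
    (by rw [rTensor_tmul]; exact (range_lTensor_d_zero f _ _).2 hz))

/-- Exactness modulo the sequence. -/
theorem exists_preimage_mod (q : ℕ) (z : C (q + 1))
    (hz : δ (q + 1) z ∈ Ideal.span (Set.range f) • (⊤ : Submodule R (C (q + 2)))) :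
    ∃ y, z - δ q y ∈ Ideal.span (Set.range f) • (⊤ : Submodule R (C (q + 1))) := by
  obtain ⟨y, w, hyw⟩ := (chase f C δ h0 hδ hK (r + 1) 0 (by omega)).1 q (z ⊗ₜ e0 1)
    (by rw [rTensor_tmul]; exact (range_lTensor_d_zero f _ _).2 hz)
  obtain ⟨y₀, rfl⟩ := exists_tmul_e0 (r := r) (C q) y
  refine ⟨y₀, (range_lTensor_d_zero f _ _).1 ⟨w, ?_⟩⟩
  rw [TensorProduct.sub_tmul, hyw, rTensor_tmul, add_sub_cancel_left]

end Groth.Agent.BlowUpCoh
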