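import Groth.Agent.BlowUpCoh.Eval
import Groth.Agent.BlowUpCoh.Specialise
import Groth.Agent.BlowUpKoszul.Relations

/-!
# Specialising the charts of the universal blowing up

On each chart the sequence `t_l - f_l` is Koszul regular, and it generates the kernel of the
evaluation at `f`.
-/

set_option autoImplicit false
set_option backward.isDefEq.respectTransparency false
set_option maxSynthPendingDepth 3

universe u

open Finset
open Groth.Agent.Disc12.Koszul Groth.Agent.CAlgH.KoszulRegular Groth.Agent.BlowUpKoszul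

namespace Groth.Agent.BlowUpCoh

variable {A : Type u} [CommRing A] {n : ℕ}

/-- The elements `t_l - f_l`. -/
noncomputable def xR {r : ℕ} (f : Fin r → A) (l : Fin r) : MvPolynomial (Fin r) A :=
  MvPolynomial.X l - MvPolynomial.C (f l)

variable (A) in
/-- The ring of the chart `σ`. -/
noncomputable def Bsub {r : ℕ} (σ : Finset (Fin r)) :
    Subalgebra (MvPolynomial (Fin r) A) (Laurent A r) :=
  (U σ 0).toSubalgebra
    (by rw [AddMonoidAlgebra.one_def]; exact mon_mem_U ⟨fun _ _ => le_rfl, by simp⟩)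
    (fun x y hx hy => by have := mul_mem_supported hx hy; rwa [add_zero] at this)

theorem mem_Bsub {r : ℕ} {σ : Finset (Fin r)} {x : Laurent A r} : x ∈ Bsub A σ ↔ x ∈ U σ 0 := Iff.rfl

section Chart

variable (k : Fin (n + 1))

/-- The exponents of the coordinates of the chart `k`. -/
def wexp (l : Fin (n + 1)) : Fin (n + 1) → ℤ :=
  if l = k then Pi.single k 1 else Pi.single l 1 - Pi.single k 1

/-- Exponents in chart coordinates. -/
def expMap : (Fin (n + 1) →₀ ℕ) →+ (Fin (n + 1) → ℤ) where
  toFun c := ∑ l, (c l : ℤ) • wexp k l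
  map_zero' := by simp
  map_add' c c' := by simp [add_smul, Finset.sum_add_distrib]

theorem sum_wexp (l : Fin (n + 1)) : ∑ j, wexp k l j = if l = k then 1 else 0 := by
  unfold wexp
  split_ifs <;> simp

theorem expMap_apply_ne (c : Fin (n + 1) →₀ ℕ) {j : Fin (n + 1)} (hj : j ≠ k) : expMap k c j = c j := by
  show (∑ l, (c l : ℤ) • wexp k l) j = _
  rw [Finset.sum_apply, Finset.sum_eq_single j]
  · simp [wexp, hj]
  · intro l _ hl
    simp only [wexp, Pi.smul_apply]
    split_ifs <;> simp [hj, hl.symm]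
  · simp

theorem sum_expMap (c : Fin (n + 1) →₀ ℕ) : ∑ j, expMap k c j = c k := by
  show ∑ j, (∑ l, (c l : ℤ) • wexp k l) j = _
  simp_rw [Finset.sum_apply]
  rw [Finset.sum_comm, Finset.sum_eq_single k]
  · simp only [Pi.smul_apply, smul_eq_mul, ← Finset.mul_sum, sum_wexp, if_pos, mul_one]
  · intro l _ hl
    simp only [Pi.smul_apply, smul_eq_mul, ← Finset.mul_sum, sum_wexp, if_neg hl, mul_zero]
  · simp

theorem expMap_injective : Function.Injective (expMap k) := fun c c' h => Finsupp.ext fun j => by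
  rcases eq_or_ne j k with rfl | hj
  · have h1 := sum_expMap j c
    rw [h, sum_expMap] at h1
    exact_mod_cast h1.symm
  · have h1 := expMap_apply_ne k c hj
    rw [h, expMap_apply_ne k c' hj] at h1
    exact_mod_cast h1.symm

theorem expMap_mem (c : Fin (n + 1) →₀ ℕ) : expMap k c ∈ expSet {k} 0 := by
  refine ⟨fun j hj => ?_, ?_⟩
  · rw [expMap_apply_ne k c (by simpa using hj)]
    positivity
  · rw [sum_expMap]
    positivity

theorem exists_expMap {a : Fin (n + 1) → ℤ} (ha : a ∈ expSet {k} 0) : ∃ c, expMap k c = a := by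
  classical
  let c : Fin (n + 1) →₀ ℕ :=
    Finsupp.equivFunOnFinite.symm fun j => if j = k then (∑ l, a l).toNat else (a j).toNat
  have hne : ∀ j, j ≠ k → expMap k c j = a j := fun j hj => by
    rw [expMap_apply_ne k c hj]
    simp [c, hj, Int.toNat_of_nonneg (ha.1 j (by simpa using hj))]
  refine ⟨c, funext fun j => ?_⟩
  rcases eq_or_ne j k with rfl | hj
  · have h1 : ∑ l, expMap j c l = ∑ l, a l := by
      rw [sum_expMap]
      simp [c, Int.toNat_of_nonneg ha.2]
    rw [← Finset.add_sum_erase _ _ (Finset.mem_univ j), ← Finset.add_sum_erase _ _ (Finset.mem_univ j),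
      Finset.sum_congr rfl fun l hl => hne l (Finset.ne_of_mem_erase hl)] at h1
    exact add_right_cancel h1
  · exact hne j hj

theorem expMap_single (l : Fin (n + 1)) : expMap k (Finsupp.single l 1) = wexp k l := by
  show ∑ i, ((Finsupp.single l 1 : Fin (n + 1) →₀ ℕ) i : ℤ) • wexp k i = _
  rw [Finset.sum_eq_single l]
  · simp
  · intro i _ hi
    simp [Finsupp.single_eq_of_ne hi]
  · simp

/-- Polynomials in the chart coordinates as Laurent polynomials. -/
noncomputable def chartEmb : MvPolynomial (Fin (n + 1)) A →ₐ[A] Laurent A (n + 1) :=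
  AddMonoidAlgebra.mapDomainAlgHom A A (expMap k)

theorem chartEmb_monomial (c : Fin (n + 1) →₀ ℕ) (a : A) :
    chartEmb k (MvPolynomial.monomial c a) = AddMonoidAlgebra.single (expMap k c) a := by
  show AddMonoidAlgebra.mapDomain (expMap k) (AddMonoidAlgebra.single c a) = _
  exact AddMonoidAlgebra.mapDomain_single

theorem chartEmb_X (l : Fin (n + 1)) : chartEmb (A := A) k (MvPolynomial.X l) = mon (wexp k l) := by
  rw [MvPolynomial.X, chartEmb_monomial, expMap_single]

theorem chartEmb_mem (p : MvPolynomial (Fin (n + 1)) A) : chartEmb k p ∈ U ({k} : Finset (Fin (n + 1))) 0 := by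
  induction p using MvPolynomial.induction_on' with
  | monomial c a =>
    rw [chartEmb_monomial, show AddMonoidAlgebra.single (expMap k c) a = a • (mon (expMap k c) : Laurent A (n + 1)) by
      rw [AddMonoidAlgebra.smul_single', mul_one]]
    exact Submodule.smul_mem ((U ({k} : Finset (Fin (n + 1))) 0).restrictScalars A) a (mon_mem_U (expMap_mem k c))
  | add p q hp hq => rw [map_add]; exact add_mem hp hq

theorem exists_chartEmb {x : Laurent A (n + 1)} (hx : x ∈ U ({k} : Finset (Fin (n + 1))) 0) :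
    ∃ p, chartEmb k p = x := by
  have hx' : x ∈ Submodule.span A ((fun a => mon a) '' expSet {k} 0) :=
    (AddMonoidAlgebra.supported_eq_span_single (R := A) (s := expSet {k} 0)).le hx
  clear hx
  induction hx' using Submodule.span_induction with
  | mem z hz =>
    obtain ⟨a, ha, rfl⟩ := hz
    obtain ⟨c, rfl⟩ := exists_expMap k ha
    exact ⟨MvPolynomial.monomial c 1, chartEmb_monomial k c 1⟩
  | zero => exact ⟨0, map_zero _⟩
  | add z z' _ _ ih ih' =>
    obtain ⟨p, rfl⟩ := ih
    obtain ⟨p', rfl⟩ := ih'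
    exact ⟨p + p', map_add _ _ _⟩
  | smul c z _ ih =>
    obtain ⟨p, rfl⟩ := ih
    exact ⟨c • p, map_smul _ _ _⟩

theorem chartEmb_injective : Function.Injective (chartEmb (A := A) k) :=
  AddMonoidAlgebra.mapDomain_injective (expMap_injective k)

/-- The chart `k` is a polynomial ring. -/
noncomputable def chartEquiv :
    Polynomial (MvPolynomial (Fin n) A) ≃ₐ[A] ↥(Bsub A ({k} : Finset (Fin (n + 1)))) :=
  ((MvPolynomial.renameEquiv A (finSuccEquiv' k)).trans (MvPolynomial.optionEquivLeft A (Fin n))).symm.trans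
    (AlgEquiv.ofBijective
      ((chartEmb k).codRestrict ((Bsub A ({k} : Finset (Fin (n + 1)))).restrictScalars A) (chartEmb_mem k))
      ⟨fun p q h => chartEmb_injective k (congrArg Subtype.val h),
        fun x => (exists_chartEmb k x.2).imp fun _ h => Subtype.ext h⟩)

theorem coe_chartEquiv (p : Polynomial (MvPolynomial (Fin n) A)) :
    (chartEquiv k p : Laurent A (n + 1)) = chartEmb k
      (((MvPolynomial.renameEquiv A (finSuccEquiv' k)).trans (MvPolynomial.optionEquivLeft A (Fin n))).symm p) :=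
  rfl

theorem coe_chartEquiv_X :
    (chartEquiv (A := A) k Polynomial.X : Laurent A (n + 1)) = mon (Pi.single k 1) := by
  rw [coe_chartEquiv, show ((MvPolynomial.renameEquiv A (finSuccEquiv' k)).trans
      (MvPolynomial.optionEquivLeft A (Fin n))).symm Polynomial.X = MvPolynomial.X k by
    rw [AlgEquiv.symm_apply_eq]; simp [finSuccEquiv'_at], chartEmb_X, wexp, if_pos rfl]

theorem coe_chartEquiv_CX (j : Fin n) :
    (chartEquiv (A := A) k (Polynomial.C (MvPolynomial.X j)) : Laurent A (n + 1)) =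
      mon (Pi.single (k.succAbove j) 1 - Pi.single k 1) := by
  rw [coe_chartEquiv, show ((MvPolynomial.renameEquiv A (finSuccEquiv' k)).trans
      (MvPolynomial.optionEquivLeft A (Fin n))).symm (Polynomial.C (MvPolynomial.X j)) =
        MvPolynomial.X (k.succAbove j) by
    rw [AlgEquiv.symm_apply_eq]; simp [finSuccEquiv'_succAbove], chartEmb_X, wexp,
    if_neg (Fin.succAbove_ne k j)]

theorem chartEquiv_CC (c : A) :
    chartEquiv (A := A) k (Polynomial.C (MvPolynomial.C c)) = algebraMap A _ c :=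
  (chartEquiv k).commutes c

variable (f : Fin (n + 1) → A)

/-- The images of `t_l - f_l` in chart coordinates. -/
noncomputable def yQ (l : Fin (n + 1)) : Polynomial (MvPolynomial (Fin n) A) :=
  Fin.insertNth (α := fun _ => Polynomial (MvPolynomial (Fin n) A)) k
    (Polynomial.X - Polynomial.C (MvPolynomial.C (f k)))
    (fun j => Polynomial.C (MvPolynomial.X j) * Polynomial.X - Polynomial.C (MvPolynomial.C (f (k.succAbove j)))) l

theorem chartEquiv_yQ (l : Fin (n + 1)) :
    chartEquiv k (yQ k f l) = algebraMap _ ↥(Bsub A ({k} : Finset (Fin (n + 1)))) (xR f l) := by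
  refine Subtype.ext ?_
  have hR : (algebraMap _ ↥(Bsub A ({k} : Finset (Fin (n + 1)))) (xR f l) : Laurent A (n + 1)) =
      mon (Pi.single l 1) - algebraMap A _ (f l) := by
    show algebraMap (MvPolynomial (Fin (n + 1)) A) (Laurent A (n + 1)) (xR f l) = _
    rw [xR, map_sub, algebraMap_X, algebraMap_C]
  rw [hR]
  rcases Fin.eq_self_or_eq_succAbove k l with rfl | ⟨j, rfl⟩
  · rw [yQ, Fin.insertNth_apply_same, map_sub, chartEquiv_CC, AddSubgroupClass.coe_sub, coe_chartEquiv_X]
    rfl
  · rw [yQ, Fin.insertNth_apply_succAbove, map_sub, map_mul, chartEquiv_CC, AddSubgroupClass.coe_sub,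
      Subalgebra.coe_mul, coe_chartEquiv_X, coe_chartEquiv_CX, AddMonoidAlgebra.single_mul_single, one_mul,
      sub_add_cancel]
    rfl

theorem kreg_ringEquiv {R S : Type u} [CommRing R] [CommRing S] (e : R ≃+* S) {r : ℕ} (g : Fin r → R)
    (h : KReg g) : KReg fun i => e (g i) := by
  let _ := e.toRingHom.toAlgebra
  have : Module.Flat R S := RingHom.flat_algebraMap_iff.1 (RingHom.Flat.of_bijective e.bijective)
  have he : (fun i => e (g i)) = fun i => algebraMap R S (g i) := rfl
  rw [he]
  exact @KReg.map r R S _ _ _ _ g h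

/-- Adjoining a monic linear form. -/
theorem kreg_cons_X_sub_C {P : Type u} [CommRing P] {r : ℕ} {g : Fin r → P} (h : KReg g) (c : P) :
    KReg (Fin.cons (Polynomial.X - Polynomial.C c) fun i => Polynomial.C (g i)) := by
  have hg : KReg fun i => Polynomial.C (g i) := h.map (S := Polynomial P)
  have h1 : ExactUpTo (1 : Polynomial P) fun i => Polynomial.C (g i) := fun p x hx => by
    obtain ⟨y, hy⟩ := (hg p x).1 hx
    exact ⟨0, y, by rw [pow_zero, one_smul, hy]⟩
  have h2 := h1.cons (f₀ := Polynomial.X - Polynomial.C c) fun r hr => by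
    refine ⟨0, ?_⟩
    rw [pow_zero, one_mul]
    have himg : Ideal.span (Set.range fun i => Polynomial.C (g i)) =
        RingHom.ker (Polynomial.mapRingHom (Ideal.Quotient.mk (Ideal.span (Set.range g)))) := by
      rw [Polynomial.ker_mapRingHom, Ideal.mk_ker, Ideal.map_span, ← Set.range_comp]
      rfl
    rw [himg, RingHom.mem_ker] at hr ⊢
    rw [map_mul, Polynomial.coe_mapRingHom, Polynomial.map_sub, Polynomial.map_X, Polynomial.map_C] at hr
    exact (Polynomial.monic_X_sub_C _).mul_right_eq_zero_iff.1 hr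
  exact fun p => LinearMap.exact_iff.2 (le_antisymm (fun x hx => by
    obtain ⟨j, y, hy⟩ := h2 p x hx
    exact ⟨y, by rw [hy, one_pow, one_smul]⟩) (by
    rintro _ ⟨y, rfl⟩
    exact LinearMap.congr_fun (d_d _ p) y))

theorem span_yQ : Ideal.span (Set.range (yQ k f)) = Ideal.span (Set.range
    (Fin.cons (Polynomial.X - Polynomial.C (MvPolynomial.C (f k))) fun j => Polynomial.C (rel f k j))) := by
  have e : ∀ j, Polynomial.C (rel f k j) = yQ k f (k.succAbove j) -
      Polynomial.C (MvPolynomial.X j) * yQ k f k := fun j => by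
    rw [yQ, yQ, Fin.insertNth_apply_succAbove, Fin.insertNth_apply_same, rel, map_sub, map_mul]
    ring
  refine le_antisymm (Ideal.span_le.2 ?_) (Ideal.span_le.2 ?_)
  · rintro _ ⟨l, rfl⟩
    have hk : yQ k f k ∈ Ideal.span (Set.range
        (Fin.cons (Polynomial.X - Polynomial.C (MvPolynomial.C (f k))) fun j => Polynomial.C (rel f k j))) :=
      Ideal.subset_span ⟨0, by rw [Fin.cons_zero, yQ, Fin.insertNth_apply_same]⟩
    rcases Fin.eq_self_or_eq_succAbove k l with rfl | ⟨j, rfl⟩
    · exact hk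
    · rw [show yQ k f (k.succAbove j) = Polynomial.C (rel f k j) + Polynomial.C (MvPolynomial.X j) * yQ k f k by
        rw [e, sub_add_cancel]]
      exact add_mem (Ideal.subset_span ⟨j.succ, by rw [Fin.cons_succ]⟩) (Ideal.mul_mem_left _ _ hk)
  · rintro _ ⟨l, rfl⟩
    induction l using Fin.cases with
    | zero => exact Ideal.subset_span ⟨k, by rw [Fin.cons_zero, yQ, Fin.insertNth_apply_same]⟩
    | succ j =>
      rw [Fin.cons_succ, e]
      exact sub_mem (Ideal.subset_span ⟨_, rfl⟩) (Ideal.mul_mem_left _ _ (Ideal.subset_span ⟨_, rfl⟩))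

theorem kreg_chart (hf : KReg f) :
    KReg fun l => algebraMap _ ↥(Bsub A ({k} : Finset (Fin (n + 1)))) (xR f l) := by
  have h := kreg_ringEquiv (chartEquiv (A := A) k).toRingEquiv _
    (kreg_of_span_eq (kreg_cons_X_sub_C (kreg_rel f k hf) (MvPolynomial.C (f k))) (span_yQ k f))
  simp only [← chartEquiv_yQ]
  exact h

end Chart

/-- The value of a product of coordinates. -/
theorem fpow_sum_single {r : ℕ} (f : Fin r → A) (T : Type u) [CommRing T] [Algebra A T] {ι : Type}
    (s : ι → Fin r) (S : Finset ι) :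
    fpow f T (∑ i ∈ S, Pi.single (s i) 1) = algebraMap A T (∏ i ∈ S, f (s i)) := by
  classical
  induction S using Finset.induction_on with
  | empty => simp [fpow_zero]
  | insert i S hi ih =>
    have h1 := fpow_single f T (s i) 1
    rw [Nat.cast_one, pow_one] at h1
    rw [Finset.sum_insert hi, Finset.prod_insert hi, map_mul, ← ih, ← h1]
    refine fpow_add f T fun j => Or.inl ⟨?_, ?_⟩
    · rw [Pi.single_apply]; split_ifs <;> simp
    · rw [Finset.sum_apply]
      exact Finset.sum_nonneg fun l _ => by rw [Pi.single_apply]; split_ifs <;> simp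

/-- Koszul regularity along a flat map of algebras. -/
theorem kreg_of_algHom {R S S' : Type u} [CommRing R] [CommRing S] [CommRing S'] [Algebra R S] [Algebra R S']
    (g : S →ₐ[R] S') (hg : letI := g.toRingHom.toAlgebra; Module.Flat S S') {r : ℕ} (x : Fin r → R)
    (h : KReg fun l => algebraMap R S (x l)) : KReg fun l => algebraMap R S' (x l) := by
  let _ := g.toRingHom.toAlgebra
  have e : (fun l => algebraMap S S' (algebraMap R S (x l))) = fun l => algebraMap R S' (x l) :=
    funext fun l => g.commutes _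
  rw [← e]
  exact @KReg.map r S S' _ _ _ hg _ h

/-- Multiplication by mutually inverse elements between submodules of an algebra. -/
def mulEquivOfMem {R L : Type u} [CommRing R] [CommRing L] [Algebra R L] (M N : Submodule R L) (a b : L)
    (hab : a * b = 1) (ha : ∀ x ∈ M, x * a ∈ N) (hb : ∀ x ∈ N, x * b ∈ M) : M ≃ₗ[R] N where
  toFun x := ⟨x.1 * a, ha _ x.2⟩
  invFun x := ⟨x.1 * b, hb _ x.2⟩
  map_add' x y := Subtype.ext (add_mul x.1 y.1 _)
  map_smul' r x := Subtype.ext (smul_mul_assoc r x.1 _)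
  left_inv x := Subtype.ext (by show x.1 * a * b = x.1; rw [mul_assoc, hab, mul_one])
  right_inv x := Subtype.ext (by show x.1 * b * a = x.1; rw [mul_assoc, mul_comm b a, hab, mul_one])

section Tuple

variable (f : Fin (n + 1) → A) {q : ℕ} (s : Fin (q + 1) → Fin (n + 1))

theorem unitsOn_away (T : Type u) [CommRing T] [Algebra A T] [IsLocalization.Away (∏ i, f (s i)) T] :
    UnitsOn f T (img s) := fun j hj => by
  obtain ⟨i, rfl⟩ := mem_img.1 hj
  exact isUnit_of_dvd_unit (map_dvd _ (Finset.dvd_prod_of_mem (fun i => f (s i)) (Finset.mem_univ i)))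
    (IsLocalization.Away.algebraMap_isUnit _)

theorem singleton_subset : ({s 0} : Finset (Fin (n + 1))) ⊆ img s :=
  Finset.singleton_subset_iff.2 (mem_img.2 ⟨0, rfl⟩)

/-- The exponent of the product of the ratios. -/
def ratExp : Fin (n + 1) → ℤ := (∑ i, Pi.single (s i) 1) - Pi.single (s 0) ((q : ℤ) + 1)

theorem ratExp_apply (j : Fin (n + 1)) : ratExp s j =
    ((univ.filter fun i => s i = j).card : ℤ) - if j = s 0 then (q : ℤ) + 1 else 0 := by
  rw [ratExp, Pi.sub_apply, Finset.sum_apply, Pi.single_apply, Finset.card_filter]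
  push_cast
  congr 1
  exact Finset.sum_congr rfl fun i _ => by simp [Pi.single_apply, eq_comm]

theorem sum_ratExp : ∑ j, ratExp s j = 0 := by
  simp only [ratExp, Pi.sub_apply, Finset.sum_sub_distrib, Finset.sum_apply]
  rw [Finset.sum_comm]
  simp

theorem ratExp_mem : ratExp s ∈ expSet ({s 0} : Finset (Fin (n + 1))) 0 := by
  refine ⟨fun j hj => ?_, (sum_ratExp s).ge⟩
  rw [ratExp_apply, if_neg (by simpa using hj), sub_zero]
  positivity

theorem neg_ratExp_mem : -ratExp s ∈ expSet (img s) 0 := by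
  refine ⟨fun j hj => ?_, ?_⟩
  · have h1 : ∀ i, s i ≠ j := fun i h => hj (mem_img.2 ⟨i, h⟩)
    rw [Pi.neg_apply, ratExp_apply, if_neg fun h => h1 0 h.symm]
    simp [h1]
  · simp [Finset.sum_neg_distrib, sum_ratExp]

theorem one_le_ratExp {j : Fin (n + 1)} (hj : j ∈ img s) (hj0 : j ≠ s 0) : 1 ≤ ratExp s j := by
  rw [ratExp_apply, if_neg hj0, sub_zero]
  obtain ⟨i, hi⟩ := mem_img.1 hj
  exact_mod_cast Finset.card_pos.2 ⟨i, Finset.mem_filter.2 ⟨Finset.mem_univ i, hi⟩⟩

theorem exists_shift {x : Laurent A (n + 1)} {m : ℤ} (hx : x ∈ U (img s) m) :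
    ∃ N : ℕ, ∀ M, N ≤ M → x * mon ((M : ℤ) • ratExp s) ∈ U ({s 0} : Finset (Fin (n + 1))) m := by
  classical
  refine ⟨∑ a ∈ x.coeff.support, ∑ j, (a j).natAbs, fun M hM => mem_U.2 fun a ha => ?_⟩
  by_contra hne
  refine ha ?_
  obtain ⟨b, hb, c, hc, rfl⟩ := Finset.mem_add.1
    (AddMonoidAlgebra.support_coeff_mul_subset x _ (Finsupp.mem_support_iff.2 hne))
  obtain rfl : c = (M : ℤ) • ratExp s := Finset.mem_singleton.1
    (Finsupp.support_single_subset hc)
  have hb' : b ∈ expSet (img s) m := by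
    by_contra h
    exact Finsupp.mem_support_iff.1 hb (mem_U.1 hx b h)
  refine ⟨fun j hj => ?_, ?_⟩
  · have hj0 : j ≠ s 0 := by simpa using hj
    rw [Pi.add_apply, Pi.smul_apply, smul_eq_mul]
    by_cases hjs : j ∈ img s
    · have h1 := one_le_ratExp s hjs hj0
      have h2 : (b j).natAbs ≤ M := le_trans ((Finset.single_le_sum (fun l _ => Nat.zero_le (b l).natAbs)
        (Finset.mem_univ j)).trans (Finset.single_le_sum
          (f := fun a : Fin (n + 1) → ℤ => ∑ l, (a l).natAbs) (fun _ _ => Nat.zero_le _) hb)) hM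
      have h3 : (M : ℤ) * 1 ≤ (M : ℤ) * ratExp s j := mul_le_mul_of_nonneg_left h1 (Int.natCast_nonneg M)
      omega
    · exact add_nonneg (hb'.1 j hjs) (mul_nonneg (Int.natCast_nonneg M) ((ratExp_mem s).1 j hj))
  · simp only [Pi.add_apply, Pi.smul_apply, smul_eq_mul, Finset.sum_add_distrib, ← Finset.mul_sum, sum_ratExp,
      mul_zero, add_zero]
    exact hb'.2

variable (A) in
/-- The inclusion of the chart `s 0`. -/
noncomputable abbrev inclB :
    ↥(Bsub A ({s 0} : Finset (Fin (n + 1)))) →ₐ[MvPolynomial (Fin (n + 1)) A] ↥(Bsub A (img s)) :=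
  Subalgebra.inclusion fun _ hx => U_mono (singleton_subset s) 0 hx

variable (A) in
/-- The product of the ratios. -/
noncomputable def uB : ↥(Bsub A ({s 0} : Finset (Fin (n + 1)))) :=
  ⟨mon (ratExp s), mon_mem_U (ratExp_mem s)⟩

theorem coe_uB_pow (N : ℕ) :
    ((uB A s ^ N : ↥(Bsub A ({s 0} : Finset (Fin (n + 1))))) : Laurent A (n + 1)) =
      mon ((N : ℤ) • ratExp s) := by
  rw [SubmonoidClass.coe_pow]
  show (mon (ratExp s) : Laurent A (n + 1)) ^ N = _
  rw [AddMonoidAlgebra.single_pow, one_pow, natCast_zsmul]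

theorem mon_cancel (N : ℕ) (x : Laurent A (n + 1)) :
    x * mon ((N : ℤ) • ratExp s) * mon ((N : ℤ) • -ratExp s) = x := by
  rw [mul_assoc, AddMonoidAlgebra.single_mul_single, smul_neg, add_neg_cancel, one_mul,
    ← AddMonoidAlgebra.one_def, mul_one]

theorem isLocalization_inclB :
    letI := (inclB A s).toRingHom.toAlgebra
    IsLocalization.Away (uB A s) ↥(Bsub A (img s)) := by
  let _ := (inclB A s).toRingHom.toAlgebra
  refine IsLocalization.Away.mk _ ?_ (fun z => ?_) (fun a b hab => ?_)
  · exact IsUnit.of_mul_eq_one ⟨mon (-ratExp s), mon_mem_U (neg_ratExp_mem s)⟩ (Subtype.ext (by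
      show (mon (ratExp s) : Laurent A (n + 1)) * mon (-ratExp s) = 1
      rw [AddMonoidAlgebra.single_mul_single, add_neg_cancel, one_mul, AddMonoidAlgebra.one_def]))
  · obtain ⟨N, hN⟩ := exists_shift s z.2
    refine ⟨N, ⟨z.1 * mon ((N : ℤ) • ratExp s), hN N le_rfl⟩, Subtype.ext ?_⟩
    show z.1 * ((inclB A s (uB A s) ^ N : ↥(Bsub A (img s))) : Laurent A (n + 1)) = _
    rw [← map_pow]
    exact congrArg _ (coe_uB_pow s N)
  · exact ⟨0, by rw [pow_zero, one_mul, one_mul]; exact Subalgebra.inclusion_injective _ hab⟩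

theorem kreg_tuple (hf : KReg f) : KReg fun l => algebraMap _ ↥(Bsub A (img s)) (xR f l) :=
  kreg_of_algHom (inclB A s) (by
    let _ := (inclB A s).toRingHom.toAlgebra
    have := isLocalization_inclB (A := A) s
    exact IsLocalization.flat _ (Submonoid.powers (uB A s))) _ (kreg_chart (s 0) f hf)

theorem single_mem (m : ℤ) : Pi.single (s 0) m ∈ expSet (img s) m :=
  ⟨fun j hj => by simp [show j ≠ s 0 from fun h => hj (mem_img.2 ⟨0, h.symm⟩)], by simp⟩

theorem mul_single_mem {m m' : ℤ} {x : Laurent A (n + 1)} (hx : x ∈ U (img s) m) :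
    x * mon (Pi.single (s 0) m') ∈ U (img s) (m + m') :=
  mul_mem_supported hx (mon_mem_U (A := A) (single_mem s m'))

omit s in
theorem mul_single_cancel (j : Fin (n + 1)) {m m' : ℤ} (h : m + m' = 0) (x : Laurent A (n + 1)) :
    x * mon (Pi.single j m) * mon (Pi.single j m') = x := by
  rw [mul_assoc, AddMonoidAlgebra.single_mul_single, ← Pi.single_add, h, Pi.single_zero, one_mul,
    ← AddMonoidAlgebra.one_def, mul_one]

variable (A) in
/-- Shifting the degree by a coordinate of the chart. -/
noncomputable def shiftEquiv (m : ℤ) :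
    ↥(Bsub A (img s)) ≃ₗ[MvPolynomial (Fin (n + 1)) A] ↥(U (img s) m : Submodule (MvPolynomial (Fin (n + 1)) A) _) :=
  (Subalgebra.toSubmoduleEquiv (Bsub A (img s))).symm.trans
    (mulEquivOfMem (Subalgebra.toSubmodule (Bsub A (img s))) (U (img s) m) (mon (Pi.single (s 0) m))
      (mon (Pi.single (s 0) (-m)))
      (by rw [AddMonoidAlgebra.single_mul_single, ← Pi.single_add, add_neg_cancel, Pi.single_zero, one_mul,
        ← AddMonoidAlgebra.one_def])
      (fun x hx => by
        have h := mul_single_mem s (m' := m) (mem_Bsub.1 hx)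
        rwa [zero_add] at h)
      fun x hx => by
        have h := mul_single_mem s (m' := -m) hx
        rw [add_neg_cancel] at h
        exact h)

theorem coe_shiftEquiv (m : ℤ) (x : ↥(Bsub A (img s))) :
    (shiftEquiv A s m x).1 = x.1 * mon (Pi.single (s 0) m) := rfl

/-- The sequence `t - f` is Koszul regular on the chart. -/
theorem kRegOn_U (hf : KReg f) (m : ℤ) : KRegOn (xR f) ↥(U (img s) m : Submodule (MvPolynomial (Fin (n + 1)) A) _) :=
  KRegOn.of_equiv _ (shiftEquiv A s m) (kRegOn_of_kreg _ (kreg_tuple f s hf))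

/-- The kernel of evaluation on a chart `{k}`. -/
theorem mem_span_of_phi_chart (hf : KReg f) (k : Fin (n + 1)) (z : ↥(Bsub A ({k} : Finset (Fin (n + 1)))))
    (hz : phi f (Localization.Away (f k)) z.1 = 0) :
    z ∈ Ideal.span (Set.range fun l => algebraMap _ ↥(Bsub A ({k} : Finset (Fin (n + 1)))) (xR f l)) := by
  obtain ⟨p, rfl⟩ := (chartEquiv k).surjective z
  have hu : UnitsOn f (Localization.Away (f k)) ({k} : Finset (Fin (n + 1))) := fun j hj => by
    rw [Finset.mem_singleton.1 hj]
    exact IsLocalization.Away.algebraMap_isUnit (f k)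
  let Θ : Polynomial (MvPolynomial (Fin n) A) →ₐ[A] Localization.Away (f k) :=
    { toFun := fun p => phi f _ (chartEquiv k p).1
      map_one' := by rw [map_one]; exact phi_one f _
      map_mul' := fun p p' => by rw [map_mul]; exact phi_mul hu (chartEquiv k p).2 (chartEquiv k p').2
      map_zero' := by rw [map_zero]; exact map_zero _
      map_add' := fun p p' => by rw [map_add]; exact map_add _ _ _
      commutes' := fun c => by
        rw [AlgEquiv.commutes]
        show phi f _ (algebraMap A (Laurent A (n + 1)) c) = _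
        rw [Algebra.algebraMap_eq_smul_one, map_smul, phi_one, ← Algebra.algebraMap_eq_smul_one] }
  have hΘ : ∀ p, Θ p = Polynomial.eval₂ (MvPolynomial.aeval (ratio f k)).toRingHom
      (algebraMap A _ (f k)) p := fun p => by
    refine RingHom.congr_fun (show Θ.toRingHom = Polynomial.eval₂RingHom _ _ from
      Polynomial.ringHom_ext' (MvPolynomial.ringHom_ext (fun c => ?_) fun j => ?_) ?_) p
    · show Θ (Polynomial.C (MvPolynomial.C c)) = _
      rw [show Polynomial.C (MvPolynomial.C c) = algebraMap A (Polynomial (MvPolynomial (Fin n) A)) c from rfl,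
        AlgHom.commutes]
      simp
    · show phi f _ (chartEquiv k (Polynomial.C (MvPolynomial.X j))).1 = _
      rw [coe_chartEquiv_CX, phi_mon]
      simp only [RingHom.comp_apply, Polynomial.coe_eval₂RingHom, Polynomial.eval₂_C, AlgHom.toRingHom_eq_coe, RingHom.coe_coe,
        MvPolynomial.aeval_X]
      refine (IsLocalization.Away.algebraMap_isUnit (f k)).mul_left_cancel ?_
      rw [algebraMap_mul_ratio]
      have h1 := fpow_single f (Localization.Away (f k)) k 1
      have h2 := fpow_single f (Localization.Away (f k)) (k.succAbove j) 1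
      rw [Nat.cast_one, pow_one] at h1 h2
      rw [← h1, ← h2, ← fpow_add f _ (fun l => ?_), add_sub_cancel]
      rcases eq_or_ne l k with rfl | hl
      · exact Or.inr (hu _ (Finset.mem_singleton_self _))
      · refine Or.inl ⟨by simp [hl], ?_⟩
        simp only [Pi.sub_apply, Pi.single_apply, if_neg hl, sub_zero]
        split_ifs <;> simp
    · show phi f _ (chartEquiv k Polynomial.X).1 = _
      rw [coe_chartEquiv_X, phi_mon, Polynomial.coe_eval₂RingHom, Polynomial.eval₂_X]
      have h1 := fpow_single f (Localization.Away (f k)) k 1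
      rwa [Nat.cast_one, pow_one] at h1
  have h0 : Polynomial.eval₂ (MvPolynomial.aeval (ratio f k)).toRingHom (algebraMap A _ (f k)) p = 0 :=
    (hΘ p).symm.trans hz
  have h1 : p.eval (MvPolynomial.C (f k)) ∈ Ideal.span (Set.range (rel f k)) := by
    rw [← ker_aeval_ratio f k hf, RingHom.mem_ker, ← h0]
    have := Polynomial.eval₂_at_apply (MvPolynomial.aeval (R := A) (ratio f k)).toRingHom (p := p)
      (MvPolynomial.C (f k))
    rw [AlgHom.toRingHom_eq_coe, RingHom.coe_coe, MvPolynomial.aeval_C] at this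
    exact this.symm
  have h2 : p ∈ Ideal.span (Set.range (yQ k f)) := by
    rw [span_yQ]
    obtain ⟨w, hw⟩ := Polynomial.X_sub_C_dvd_sub_C_eval (a := MvPolynomial.C (f k)) (p := p)
    rw [sub_eq_iff_eq_add.1 hw]
    refine add_mem (Ideal.mul_mem_right _ _ (Ideal.subset_span ⟨0, Fin.cons_zero _ _⟩)) ?_
    refine Ideal.span_mono ?_ (by
      have := Ideal.mem_map_of_mem Polynomial.C h1
      rwa [Ideal.map_span, ← Set.range_comp] at this)
    rintro _ ⟨j, rfl⟩
    exact ⟨j.succ, by rw [Fin.cons_succ]; rfl⟩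
  have h3 := Ideal.mem_map_of_mem (chartEquiv (A := A) k).toRingEquiv.toRingHom h2
  rw [Ideal.map_span, ← Set.range_comp] at h3
  convert h3 using 3
  · funext l
    exact (chartEquiv_yQ k f l).symm
  · rfl

theorem mem_span_of_phi (hf : KReg f) (T : Type u) [CommRing T] [Algebra A T]
    [IsLocalization.Away (∏ i, f (s i)) T] (z : ↥(Bsub A (img s))) (hz : phi f T z.1 = 0) :
    z ∈ Ideal.span (Set.range fun l => algebraMap _ ↥(Bsub A (img s)) (xR f l)) := by
  let _ := (inclB A s).toRingHom.toAlgebra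
  have := isLocalization_inclB (A := A) s
  obtain ⟨N, z₀, hz₀⟩ := IsLocalization.Away.surj (uB A s) z
  have hT := unitsOn_away f s T
  let T0 := Localization.Away (f (s 0))
  have hT0 : UnitsOn f T0 ({s 0} : Finset (Fin (n + 1))) := fun j hj => by
    rw [Finset.mem_singleton.1 hj]
    exact IsLocalization.Away.algebraMap_isUnit (f (s 0))
  let g : T0 →ₐ[A] T := IsLocalization.liftAlgHom (M := Submonoid.powers (f (s 0)))
    (f := Algebra.ofId A T) (by
      rintro ⟨_, e, rfl⟩
      rw [Algebra.ofId_apply, map_pow]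
      exact (hT _ (mem_img.2 ⟨0, rfl⟩)).pow e)
  have hz₀' : phi f T z₀.1 = 0 := by
    have h : (z₀ : Laurent A (n + 1)) = z.1 * ((inclB A s (uB A s) ^ N : ↥(Bsub A (img s))) : Laurent A (n + 1)) :=
      congrArg Subtype.val hz₀.symm
    rw [h, phi_mul hT z.2 (inclB A s (uB A s) ^ N : ↥(Bsub A (img s))).2, hz, zero_mul]
  rw [← map_phi g hT0 z₀.2] at hz₀'
  obtain ⟨⟨a, c⟩, hac⟩ := IsLocalization.surj (Submonoid.powers (f (s 0))) (phi f T0 z₀.1)
  have ha : algebraMap A T a = 0 := by
    rw [← g.commutes, ← hac, map_mul, hz₀', zero_mul]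
  obtain ⟨⟨_, M, rfl⟩, hM⟩ := (IsLocalization.map_eq_zero_iff (Submonoid.powers (∏ i, f (s i))) T _).1 ha
  have hu : algebraMap A T0 (f (s 0)) ^ (q + 1) * phi f T0 (uB A s).1 = algebraMap A T0 (∏ i, f (s i)) := by
    show _ * phi f T0 (mon (ratExp s)) = _
    rw [phi_mon, ← fpow_single f T0 (s 0) (q + 1), ← fpow_add f T0 (fun j => ?_)]
    · rw [ratExp, Nat.cast_succ, add_sub_cancel]
      exact fpow_sum_single f T0 s univ
    · rcases eq_or_ne j (s 0) with rfl | hj
      · exact Or.inr (hT0 _ (Finset.mem_singleton_self _))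
      · exact Or.inl ⟨by simp [hj], (ratExp_mem s).1 j (by simpa using hj)⟩
  have hkill : phi f T0 ((uB A s ^ M * z₀ : ↥(Bsub A ({s 0} : Finset (Fin (n + 1))))) : Laurent A (n + 1)) = 0 := by
    have hpow : ∀ e : ℕ, phi f T0 ((uB A s ^ e : ↥(Bsub A ({s 0} : Finset (Fin (n + 1))))) : Laurent A (n + 1)) =
        phi f T0 (uB A s).1 ^ e := fun e => by
      induction e with
      | zero => rw [pow_zero, pow_zero]; exact phi_one f _
      | succ e ih =>
        rw [pow_succ, pow_succ, Subalgebra.coe_mul,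
          phi_mul hT0 (uB A s ^ e : ↥(Bsub A ({s 0} : Finset (Fin (n + 1))))).2 (uB A s).2, ih]
    rw [Subalgebra.coe_mul, phi_mul hT0 (uB A s ^ M : ↥(Bsub A ({s 0} : Finset (Fin (n + 1))))).2 z₀.2, hpow]
    have hcu : IsUnit (algebraMap A T0 c.1 * algebraMap A T0 (f (s 0)) ^ ((q + 1) * M)) :=
      (IsLocalization.map_units T0 c).mul ((hT0 _ (Finset.mem_singleton_self _)).pow _)
    refine hcu.mul_right_eq_zero.1 ?_
    calc algebraMap A T0 c.1 * algebraMap A T0 (f (s 0)) ^ ((q + 1) * M) *
          (phi f T0 (uB A s).1 ^ M * phi f T0 z₀.1)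
        = (algebraMap A T0 (f (s 0)) ^ (q + 1) * phi f T0 (uB A s).1) ^ M *
          (phi f T0 z₀.1 * algebraMap A T0 c.1) := by ring
      _ = algebraMap A T0 ((∏ i, f (s i)) ^ M * a) := by rw [hu, hac, map_mul, map_pow]
      _ = 0 := by rw [hM, map_zero]
  have hmem := mem_span_of_phi_chart f hf (s 0) _ hkill
  have h4 := Ideal.mem_map_of_mem (inclB A s).toRingHom hmem
  rw [Ideal.map_span, ← Set.range_comp, map_mul, map_pow] at h4
  have hu' : IsUnit (inclB A s (uB A s)) := IsLocalization.Away.algebraMap_isUnit _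
  have hz₀e : inclB A s z₀ = z * inclB A s (uB A s) ^ N := hz₀.symm
  have h5 : inclB A s (uB A s) ^ M * (z * inclB A s (uB A s) ^ N) ∈
      Ideal.span (Set.range fun l => algebraMap _ ↥(Bsub A (img s)) (xR f l)) := by
    rw [← hz₀e]
    refine Ideal.span_mono ?_ h4
    rintro _ ⟨l, rfl⟩
    exact ⟨l, ((inclB A s).commutes _).symm⟩
  rw [mul_comm z, ← mul_assoc, ← pow_add] at h5
  exact (Ideal.unit_mul_mem_iff_mem _ (hu'.pow (M + N))).1 h5

/-- The kernel of evaluation on the sections over a chart. -/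
theorem mem_smul_of_phi (hf : KReg f) (T : Type u) [CommRing T] [Algebra A T]
    [IsLocalization.Away (∏ i, f (s i)) T] (m : ℤ) (x : ↥(U (img s) m : Submodule (MvPolynomial (Fin (n + 1)) A) _))
    (hx : phi f T x.1 = 0) :
    x ∈ Ideal.span (Set.range (xR f)) •
      (⊤ : Submodule (MvPolynomial (Fin (n + 1)) A) ↥(U (img s) m : Submodule (MvPolynomial (Fin (n + 1)) A) _)) := by
  obtain ⟨z, rfl⟩ := (shiftEquiv A s m).surjective x
  have hT := unitsOn_away f s T
  have hz : phi f T z.1 = 0 := by
    have h := phi_mul hT (shiftEquiv A s m z).2 (mon_mem_U (A := A) (single_mem s (-m)))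
    rwa [hx, zero_mul, coe_shiftEquiv, mul_single_cancel (s 0) (add_neg_cancel m)] at h
  have hmem := mem_span_of_phi f s hf T z hz
  rw [show (fun l => algebraMap _ ↥(Bsub A (img s)) (xR f l)) = algebraMap _ _ ∘ xR f from rfl, Set.range_comp,
    ← Ideal.map_span] at hmem
  have : z ∈ Ideal.span (Set.range (xR f)) • (⊤ : Submodule (MvPolynomial (Fin (n + 1)) A) ↥(Bsub A (img s))) := by
    rw [Ideal.smul_top_eq_map]; exact hmem
  have h3 := Submodule.mem_map_of_mem (f := (shiftEquiv A s m).toLinearMap) this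
  rw [Submodule.map_smul''] at h3
  exact Submodule.smul_mono le_rfl le_top h3

end Tuple

end Groth.Agent.BlowUpCoh
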