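import Groth.Agent.BlowUpCoh.Image
import Groth.Agent.Coherent.CohBC.Geom

/-!
# Cohomology of the twists on a blowing up of an affine scheme
-/

set_option autoImplicit false
set_option backward.isDefEq.respectTransparency.types false
set_option backward.isDefEq.respectTransparency false

universe u

open CategoryTheory Limits AlgebraicGeometry TopologicalSpace Opposite
open Groth.Agent.BlowUpLib Groth.Agent.CAlgH.KoszulRegular Groth.Agent.Coherent Groth.Agent.Coherent.CohBC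
open Groth.Agent.ModPairLib (res_res ideal_restrict)

namespace Groth.Agent.BlowUpCoh

local notation "rs" => Groth.Agent.ModPairLib.res

/-- A structure of `m`-th power of the invertible ideal `J` on a module: on an affine open where `J` is
generated by a regular element the module is identified with the functions. -/
structure TwistData {Y : Scheme.{u}} (J : Y.IdealSheafData) (M : Y.Modules) (m : ℤ) where
  /-- The identification attached to a generator. -/
  toFun : ∀ (W : Y.affineOpens), Γ(Y, W.1) → Γ(M, W.1) →+ Γ(Y, W.1)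
  bij : ∀ (W : Y.affineOpens) (a : Γ(Y, W.1)), J.ideal W = Ideal.span {a} → a ∈ nonZeroDivisors Γ(Y, W.1) →
    Function.Bijective (toFun W a)
  natural : ∀ (W V : Y.affineOpens) (h : V.1 ≤ W.1) (a : Γ(Y, W.1)) (x : Γ(M, W.1)),
    J.ideal W = Ideal.span {a} → a ∈ nonZeroDivisors Γ(Y, W.1) →
      rs h (toFun W a x) = toFun V (rs h a) (resM M h x)
  smul : ∀ (W : Y.affineOpens) (a r : Γ(Y, W.1)) (x : Γ(M, W.1)),
    J.ideal W = Ideal.span {a} → a ∈ nonZeroDivisors Γ(Y, W.1) → toFun W a (r • x) = r * toFun W a x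
  units : ∀ (W : Y.affineOpens) (a : Γ(Y, W.1)) (u : Γ(Y, W.1)ˣ) (x : Γ(M, W.1)),
    J.ideal W = Ideal.span {a} → a ∈ nonZeroDivisors Γ(Y, W.1) →
      toFun W a x = ((u ^ m : Γ(Y, W.1)ˣ) : Γ(Y, W.1)) * toFun W ((u : Γ(Y, W.1)) * a) x

/-- The structure sheaf is a power of exponent `0`. -/
noncomputable def twistO {Y : Scheme.{u}} (J : Y.IdealSheafData) : TwistData J (Coh.structureModule Y) 0 where
  toFun _ _ := AddMonoidHom.mk' (fun x => x) fun _ _ => rfl
  bij _ _ _ _ := Function.bijective_id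
  natural _ _ _ _ _ _ _ := rfl
  smul _ _ _ _ _ _ := rfl
  units _ _ u x _ _ := by rw [zpow_zero, Units.val_one, one_mul]

variable {X X' : Scheme.{u}} [IsAffine X] {I : X.IdealSheafData} (b : X' ⟶ X) [X'.IsSeparated]
  {n : ℕ} (f : Fin (n + 1) → Γ(X, ⊤)) (hb : BlowUp.IsBlowUp b I)
  (hspan : I.ideal (topAff X) = Ideal.span (Set.range f))

section

omit [IsAffine X]

theorem fpow_single_unit {T : Type u} [CommRing T] [Algebra Γ(X, ⊤) T] (l : Fin (n + 1))
    (h : IsUnit (algebraMap Γ(X, ⊤) T (f l))) (m : ℤ) :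
    fpow f T (Pi.single l m) = ((h.unit ^ m : Tˣ) : T) := by
  rw [fpow, Finset.prod_eq_single l]
  · have e := h.unit_spec
    generalize h.unit = w at e ⊢
    rw [Pi.single_eq_same, fpow1, ← e, Ring.inverse_unit,
      ← Units.val_pow_eq_pow_val, ← Units.val_pow_eq_pow_val, ← Units.val_mul]
    congr 1
    rw [← zpow_natCast, ← zpow_natCast, ← zpow_neg_one, ← zpow_mul, ← zpow_add]
    congr 1
    omega
  · intro j _ hj
    simp [fpow1, hj]
  · simp

theorem fpow_single_mem_D {q : ℕ} (s : Fin (q + 1) → Fin (n + 1)) (m : ℤ) :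
    fpow f (Af f s) (Pi.single (s 0) m) ∈ D f m s := by
  rw [← phi_mon]
  exact phi_mem_D f (mon_mem_U (single_mem s m))

theorem isUnit_fpow_single {q : ℕ} (s : Fin (q + 1) → Fin (n + 1)) (m : ℤ) :
    IsUnit (fpow f (Af f s) (Pi.single (s 0) m)) := by
  rw [fpow_single_unit f (s 0) (isUnit_self f s (mem_img.2 ⟨0, rfl⟩))]
  exact Units.isUnit _

end

include hb hspan in
theorem isAffineOpen_WI {q : ℕ} (s : Fin (q + 1) → Fin (n + 1)) : IsAffineOpen (WI b f I s) :=
  isAffineOpen_iInf_fin' q _ fun _ => isAffineOpen_chartW b f hb hspan _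

/-- An intersection of charts as an affine open. -/
noncomputable abbrev WA {q : ℕ} (s : Fin (q + 1) → Fin (n + 1)) : X'.affineOpens :=
  ⟨WI b f I s, isAffineOpen_WI b f hb hspan s⟩

/-- The generator of the exceptional ideal on an intersection of charts. -/
noncomputable def gen (I : X.IdealSheafData) {q : ℕ} (s : Fin (q + 1) → Fin (n + 1)) (l : Fin (n + 1)) :
    Γ(X', WI b f I s) :=
  (b.appLE ⊤ (WI b f I s) le_top).hom (f l)

theorem rho_gen {q : ℕ} (s : Fin (q + 1) → Fin (n + 1)) (l : Fin (n + 1)) :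
    rho b f hb hspan s (gen b f I s l) = algebraMap Γ(X, ⊤) (Af f s) (f l) :=
  rho_appLE b f hb hspan s (f l)

theorem gen_spec {q : ℕ} (s : Fin (q + 1) → Fin (n + 1)) {k : Fin (n + 1)} (hk : k ∈ img s) :
    (I.comap b).ideal (WA b f hb hspan s) = Ideal.span {gen b f I s k} ∧
      gen b f I s k ∈ nonZeroDivisors Γ(X', (WA b f hb hspan s).1) := by
  have h : (I.comap b).ideal (WA b f hb hspan s) = Ideal.span {gen b f I s k} := by
    rw [ProjLib.comap_ideal_eq I b (topAff X) (WA b f hb hspan s) le_top, hspan, Ideal.map_span]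
    refine le_antisymm (Ideal.span_le.2 ?_) (Ideal.span_le.2 ?_)
    · rintro _ ⟨_, ⟨j, rfl⟩, rfl⟩
      obtain ⟨z, hz⟩ := exists_rho_eq b f hb hspan s (phi_mem_D f (mon_mem_U (ratio_mem_expSet s hk j)))
      refine Ideal.mem_span_singleton'.2 ⟨z, rho_injective b f hb hspan s ?_⟩
      rw [map_mul, hz, rho_gen, mul_comm, phi_ratio f s hk]
      exact (rho_gen b f hb hspan s j).symm
    · rintro _ rfl
      exact Ideal.subset_span ⟨_, ⟨k, rfl⟩, rfl⟩
  exact ⟨h, mem_nonZeroDivisors_of_eff hb.1 h⟩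

variable {M : X'.Modules} {m : ℤ} (T : TwistData (I.comap b) M m)

/-- Sections over an intersection of charts inside `A[1 / ∏ f]`. -/
noncomputable def rhoM {q : ℕ} (s : Fin (q + 1) → Fin (n + 1)) : Γ(M, WI b f I s) →+ Af f s :=
  (AddMonoidHom.mulRight (fpow f (Af f s) (Pi.single (s 0) m))).comp
    ((rho b f hb hspan s).toAddMonoidHom.comp (T.toFun (WA b f hb hspan s) (gen b f I s (s 0))))

theorem rhoM_apply {q : ℕ} (s : Fin (q + 1) → Fin (n + 1)) (x : Γ(M, WI b f I s)) :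
    rhoM b f hb hspan T s x = rho b f hb hspan s (T.toFun (WA b f hb hspan s) (gen b f I s (s 0)) x) *
      fpow f (Af f s) (Pi.single (s 0) m) := rfl

theorem rhoM_injective {q : ℕ} (s : Fin (q + 1) → Fin (n + 1)) : Function.Injective (rhoM b f hb hspan T s) :=
  fun x y h => by
    obtain ⟨hg, hn⟩ := gen_spec b f hb hspan s (k := s 0) (mem_img.2 ⟨0, rfl⟩)
    rw [rhoM_apply, rhoM_apply, (isUnit_fpow_single f s m).mul_left_inj] at h
    exact (T.bij _ _ hg hn).1 (rho_injective b f hb hspan s h)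

theorem rhoM_mem {q : ℕ} (s : Fin (q + 1) → Fin (n + 1)) (x : Γ(M, WI b f I s)) :
    rhoM b f hb hspan T s x ∈ D f m s := by
  rw [rhoM_apply]
  have := mul_mem_D f (rho_mem b f hb hspan s (T.toFun (WA b f hb hspan s) (gen b f I s (s 0)) x))
    (fpow_single_mem_D f s m)
  rwa [zero_add] at this

theorem exists_rhoM_eq {q : ℕ} (s : Fin (q + 1) → Fin (n + 1)) {c : Af f s} (hc : c ∈ D f m s) :
    ∃ x, rhoM b f hb hspan T s x = c := by
  obtain ⟨hg, hn⟩ := gen_spec b f hb hspan s (k := s 0) (mem_img.2 ⟨0, rfl⟩)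
  have h0 : c * fpow f (Af f s) (Pi.single (s 0) (-m)) ∈ D f 0 s := by
    have := mul_mem_D f hc (fpow_single_mem_D f s (-m))
    rwa [add_neg_cancel] at this
  obtain ⟨z, hz⟩ := exists_rho_eq b f hb hspan s h0
  obtain ⟨x, hx⟩ := (T.bij _ _ hg hn).2 z
  refine ⟨x, ?_⟩
  rw [rhoM_apply, hx, hz, mul_assoc, fpow_single_unit f (s 0) (isUnit_self f s (mem_img.2 ⟨0, rfl⟩)),
    fpow_single_unit f (s 0) (isUnit_self f s (mem_img.2 ⟨0, rfl⟩)), ← Units.val_mul, ← zpow_add, neg_add_cancel,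
    zpow_zero, Units.val_one, mul_one]

theorem rhoM_natural {p q : ℕ} (t : Fin (p + 1) → Fin (n + 1)) (s : Fin (q + 1) → Fin (n + 1))
    (h : img t ⊆ img s) (x : Γ(M, WI b f I t)) :
    resTo f t s h (rhoM b f hb hspan T t x) =
      rhoM b f hb hspan T s (resM M (WI_anti b f (I := I) t s h) x) := by
  have hk : t 0 ∈ img s := h (mem_img.2 ⟨0, rfl⟩)
  obtain ⟨hgt, hnt⟩ := gen_spec b f hb hspan t (k := t 0) (mem_img.2 ⟨0, rfl⟩)
  obtain ⟨hg, hn⟩ := gen_spec b f hb hspan s (k := s 0) (mem_img.2 ⟨0, rfl⟩)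
  obtain ⟨hg', hn'⟩ := gen_spec b f hb hspan s hk
  obtain ⟨c, hc⟩ := Ideal.mem_span_singleton'.1 (hg.le (hg'.ge (Ideal.mem_span_singleton_self _)))
  obtain ⟨d, hd⟩ := Ideal.mem_span_singleton'.1 (hg'.le (hg.ge (Ideal.mem_span_singleton_self _)))
  have hcd : d * c = 1 := by
    refine (mul_cancel_right_mem_nonZeroDivisors hn).1 ?_
    rw [mul_assoc, hc, hd, one_mul]
  let u : Γ(X', (WA b f hb hspan s).1)ˣ := ⟨c, d, by rw [mul_comm]; exact hcd, hcd⟩
  have hres : rs (WI_anti b f (I := I) t s h) (gen b f I t (t 0)) = gen b f I s (t 0) :=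
    ConcreteCategory.congr_hom (b.appLE_map le_top (homOfLE (WI_anti b f (I := I) t s h)).op) (f (t 0))
  have e1 : T.toFun (WA b f hb hspan s) (gen b f I s (s 0)) (resM M (WI_anti b f (I := I) t s h) x) =
      ((u ^ m : Γ(X', (WA b f hb hspan s).1)ˣ) : Γ(X', (WA b f hb hspan s).1)) *
        T.toFun (WA b f hb hspan s) (gen b f I s (t 0)) (resM M (WI_anti b f (I := I) t s h) x) := by
    rw [← hc]
    exact T.units _ _ u _ hg hn
  have hm : resTo f t s h (fpow f (Af f t) (Pi.single (t 0) m)) = fpow f (Af f s) (Pi.single (t 0) m) := by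
    rw [← phi_mon, ← phi_mon]
    exact map_phi (resTo f t s h) (unitsOn_Af f t) (mon_mem_U (single_mem t m))
  rw [rhoM_apply, rhoM_apply, map_mul, rho_natural b f hb hspan t s h, hm, e1, map_mul]
  change rho b f hb hspan s (rs (WI_anti b f (I := I) t s h) (T.toFun (WA b f hb hspan t) (gen b f I t (t 0)) x)) * _ = _
  rw [T.natural (WA b f hb hspan t) (WA b f hb hspan s) (WI_anti b f (I := I) t s h) _ x hgt hnt, hres,
    mul_comm (rho b f hb hspan s ((u ^ m : Γ(X', (WA b f hb hspan s).1)ˣ) : Γ(X', (WA b f hb hspan s).1))), mul_assoc]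
  congr 1
  let w : (Af f s)ˣ := Units.map (rho b f hb hspan s).toMonoidHom u
  rw [show rho b f hb hspan s ((u ^ m : Γ(X', (WA b f hb hspan s).1)ˣ) : Γ(X', (WA b f hb hspan s).1)) =
      ((w ^ m : (Af f s)ˣ) : Af f s) by rw [← map_zpow]; rfl,
    fpow_single_unit f (t 0) (isUnit_self f s hk), fpow_single_unit f (s 0) (isUnit_self f s (mem_img.2 ⟨0, rfl⟩)),
    ← Units.val_mul, ← mul_zpow]
  congr 2
  refine Units.ext ?_
  show algebraMap Γ(X, ⊤) (Af f s) (f (t 0)) = rho b f hb hspan s c * algebraMap Γ(X, ⊤) (Af f s) (f (s 0))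
  rw [← rho_gen b f hb hspan s, ← rho_gen b f hb hspan s, ← map_mul, hc]

variable (hf : KReg f)

theorem rhoM_cxD {q : ℕ} (x : ∀ t : Fin (q + 1) → Fin (n + 1), Γ(M, WI b f I t))
    (s : Fin (q + 2) → Fin (n + 1)) :
    dA f (q + 1) (fun t => rhoM b f hb hspan T t (x t)) s = rhoM b f hb hspan T s
      (∑ j : Fin (q + 2), (-1 : ℤ) ^ (j : ℕ) •
        resM M (WI_anti b f (I := I) (s ∘ j.succAbove) s (img_comp_subset s j)) (x (s ∘ j.succAbove))) := by
  rw [map_sum, dA]
  refine Finset.sum_congr rfl fun j _ => ?_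
  rw [map_zsmul, res_eq_resTo, rhoM_natural b f hb hspan T]

include hb hspan T hf in
/-- The higher cohomology of a twist vanishes. -/
theorem subsingleton_HH [Coh.IsQCoh M] (hm : -(n : ℤ) ≤ m) (p : ℕ) : Subsingleton (Coh.HH X' M (p + 1)) := by
  let : X'.Over (Spec (CommRingCat.of Γ(X, ⊤))) := ⟨b ≫ X.toSpecΓ⟩
  let W : ULift.{u} (Fin (n + 1)) → X'.Opens := fun i => chartW I b f i.down
  have hcov : ⨆ i, W i = ⊤ := top_le_iff.1 ((iSup_chartW b f hb hspan).ge.trans
    (iSup_le fun k => le_iSup_of_le (ULift.up k) le_rfl))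
  have hW : ∀ (q : ℕ) (a : Fin (q + 1) → ULift.{u} (Fin (n + 1))), IsAffineOpen (cinter W a) :=
    fun q a => isAffineOpen_WI b f hb hspan (fun i => (a i).down)
  suffices h : ((cxA Γ(X, ⊤) W M).ExactAt (p + 1)) by
    have := ModuleCat.subsingleton_of_isZero h.isZero_homology
    exact (hhCech Γ(X, ⊤) W hcov hW M (p + 1)).toEquiv.subsingleton
  rw [HomologicalComplex.exactAt_iff' _ p (p + 1) (p + 2) (by simp) (by simp), ShortComplex.moduleCat_exact_iff]
  intro (x : ∀ a : Fin (p + 2) → ULift.{u} (Fin (n + 1)), Γ(M, cinter W a)) hx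
  replace hx : cxD Γ(X, ⊤) W M (p + 1) x = 0 := by
    refine Eq.trans ?_ hx
    show _ = ((cxA Γ(X, ⊤) W M).d (p + 1) (p + 1 + 1)).hom x
    rw [cxA_d]
    rfl
  let x' : ∀ t : Fin (p + 2) → Fin (n + 1), Γ(M, WI b f I t) := fun t => x (ULift.up ∘ t)
  obtain ⟨y, hy, hyx⟩ := exists_dA_eq f hf hm (q := p + 1) (fun t => rhoM b f hb hspan T t (x' t))
    (fun t => rhoM_mem b f hb hspan T t _) (fun w => by
      rw [rhoM_cxD]
      have h := congrFun hx (ULift.up ∘ w)
      exact (congrArg (rhoM b f hb hspan T w) h).trans (map_zero _))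
  choose z hz using fun t => exists_rhoM_eq b f hb hspan T t (hy t)
  refine ⟨(fun a => z (fun i => (a i).down) : ∀ a : Fin (p + 1) → ULift.{u} (Fin (n + 1)), Γ(M, cinter W a)), ?_⟩
  show ((cxA Γ(X, ⊤) W M).d p (p + 1)).hom _ = x
  rw [cxA_d]
  funext a
  refine rhoM_injective b f hb hspan T (fun i => (a i).down) ?_
  refine Eq.trans ?_ (hyx (fun i => (a i).down))
  rw [← funext hz, rhoM_cxD]
  rfl

end Groth.Agent.BlowUpCoh
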