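import Groth.Agent.BlowUpCoh.Global
import Groth.Agent.CAlgH.KoszulH1
import Groth.Agent.ModStalk.Pullback
import Groth.Agent.FlatMor12.FlatFun.GenPtsDescent
import Groth.Agent.LocFreeLib.Semilocal
import Groth.Prelude.Def_RegImm
import Groth.Prelude.Def_Mor2
import Groth.Prelude.Def_Omega2
import Groth.Prelude.Def_StMod

/-!
# Regular immersions give Koszul bases; the unit of the structure sheaf on a blowing up
-/

set_option autoImplicit false
set_option backward.isDefEq.respectTransparency.types false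

universe u

open CategoryTheory CategoryTheory.Limits AlgebraicGeometry TopologicalSpace Opposite
open Groth.Agent.Coherent Groth.Agent.CAlgH.KoszulRegular Groth.Agent.PicLib

namespace Groth.Agent.BlowUpCoh

variable {X X' : Scheme.{u}} {I : X.IdealSheafData}

theorem ideal_eq_top_of_disjoint (V : X.affineOpens) (h : ∀ x ∈ V.1, x ∉ I.support) : I.ideal V = ⊤ := by
  by_contra hne
  obtain ⟨m, hm, hle⟩ := Ideal.exists_le_maximal _ hne
  have hmem : V.2.fromSpec ⟨m, hm.isPrime⟩ ∈ X.zeroLocus (U := V.1) (I.ideal V) ∩ V.1 := by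
    rw [← V.2.fromSpec_image_zeroLocus]
    exact ⟨_, hle, rfl⟩
  rw [← I.coe_support_inter V] at hmem
  exact h _ hmem.2 hmem.1

/-- A Koszul basis is obtained from Koszul regular generators near the points of the support. -/
theorem koszulBasis_of_local {k : ℕ}
    (h : ∀ x ∈ I.support, ∃ (U : X.affineOpens) (n : ℕ) (f : Fin (n + 1) → Γ(X, U.1)),
      x ∈ U.1 ∧ k ≤ n ∧ I.ideal U = Ideal.span (Set.range f) ∧ KReg f) : KoszulBasis I k := by
  refine Opens.isBasis_iff_nbhd.mpr fun {W x} hx => ?_
  by_cases hs : x ∈ I.support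
  · obtain ⟨U, n, f, hxU, hkn, hf, hk⟩ := h x hs
    obtain ⟨g, hg, hxg⟩ := U.2.exists_basicOpen_le ⟨x, hx⟩ hxU
    have := U.2.isLocalization_basicOpen g
    have : Module.Flat Γ(X, U.1) Γ(X, X.basicOpen g) := IsLocalization.flat _ (Submonoid.powers g)
    refine ⟨X.basicOpen g, ⟨U.2.basicOpen g, n, fun l => algebraMap Γ(X, U.1) Γ(X, X.basicOpen g) (f l), hkn, ?_,
      hk.map⟩, hxg, hg⟩
    show I.ideal (X.affineBasicOpen g) = _
    rw [← I.map_ideal_basicOpen U g, hf, Ideal.map_span, ← Set.range_comp]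
    rfl
  · obtain ⟨V, hV, hxV, hVW⟩ := Opens.isBasis_iff_nbhd.mp X.isBasis_affineOpens
      (show x ∈ W ⊓ ⟨(I.support : Set X)ᶜ, I.support.isClosed.isOpen_compl⟩ from ⟨hx, hs⟩)
    have htop : I.ideal ⟨V, hV⟩ = ⊤ := ideal_eq_top_of_disjoint ⟨V, hV⟩ fun y hy => (hVW hy).2
    have hspan : Ideal.span (Set.range (fun _ : Fin (k + 1) => (1 : Γ(X, V)))) = ⊤ :=
      Ideal.eq_top_of_isUnit_mem _ (Ideal.subset_span ⟨0, rfl⟩) isUnit_one
    refine ⟨V, ⟨hV, k, fun _ => 1, le_rfl, htop.trans hspan.symm, kreg_of_local _ fun q hq hle => ?_⟩, hxV,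
      hVW.trans inf_le_left⟩
    exact absurd (top_le_iff.1 (hspan.ge.trans hle)) hq.ne_top

/-- A nonempty list generating Koszul regularly, as a family indexed by a successor. -/
theorem exists_family_of_list {R : Type u} [CommRing R] (rs : List R) (hne : rs ≠ [])
    (hk : LCI.IsKoszulRegularSeq R rs) :
    ∃ (n : ℕ) (f : Fin (n + 1) → R), rs.length = n + 1 ∧ Ideal.ofList rs = Ideal.span (Set.range f) ∧ KReg f := by
  obtain ⟨n, hn⟩ : ∃ n, rs.length = n + 1 :=
    ⟨rs.length - 1, by have := List.length_pos_iff.2 hne; omega⟩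
  let f : Fin (n + 1) → R := fun l => rs.get (l.cast hn.symm)
  have hl : List.ofFn f = rs :=
    ((List.ofFn_congr hn.symm f).trans (congrArg List.ofFn (funext fun _ => rfl))).trans (List.ofFn_get rs)
  refine ⟨n, f, hn, ?_, (isKoszulRegularSeq_iff f).1 (hl.symm ▸ hk)⟩
  rw [← span_range_get]
  exact congrArg Ideal.span (Set.ext fun r =>
    ⟨fun ⟨a, ha⟩ => ⟨a.cast hn, ha⟩, fun ⟨a, ha⟩ => ⟨a.cast hn.symm, ha⟩⟩)

theorem isKoszulRegularSeq_of_isRegular {R : Type u} [CommRing R] {rs : List R}
    (h : RingTheory.Sequence.IsRegular R rs) : LCI.IsKoszulRegularSeq R rs := by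
  rw [← List.ofFn_get rs] at h ⊢
  exact (isKoszulRegularSeq_iff _).2 (Groth.Agent.CAlgH.KoszulH1.kreg_of_isWeaklyRegular h.toIsWeaklyRegular)

/-- The ideal sheaf module has no stalk where the ideal vanishes. -/
theorem subsingleton_stalk_idealMod (U : X.affineOpens) (hU : I.ideal U = ⊥) {x : X} (hx : x ∈ U.1) :
    Subsingleton ((ClSub.idealMod I).presheaf.stalk x) := by
  refine subsingleton_of_forall_eq 0 fun s => ?_
  obtain ⟨W, hxW, k, rfl⟩ := (ClSub.idealMod I).presheaf.exists_germ_eq s
  obtain ⟨V, hV, hxV, hVW⟩ := Opens.isBasis_iff_nbhd.mp X.isBasis_affineOpens (show x ∈ U.1 ⊓ W from ⟨hx, hxW⟩)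
  have hz : resM (ClSub.idealMod I) (hVW.trans inf_le_right) k = 0 := by
    refine idealModι_injective I V (Eq.trans ?_ (map_zero ((ClSub.idealModι I).app V).hom).symm)
    have := idealModι_mem I ⟨V, hV⟩ (resM (ClSub.idealMod I) (hVW.trans inf_le_right) k)
    rw [← I.map_ideal (U := ⟨V, hV⟩) (V := U) (hVW.trans inf_le_left), hU, Ideal.map_bot] at this
    exact this
  rw [← TopCat.Presheaf.germ_res_apply (ClSub.idealMod I).presheaf (homOfLE (hVW.trans inf_le_right)) x hxV k]
  exact (congrArg _ hz).trans (map_zero _)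

section producers

variable {Y : Scheme.{u}} (i : Y ⟶ X)

theorem koszulBasis_of_dense [IsClosedImmersion i] (hi : RegImm.IsRegularImmersion .koszul i)
    (hdense : Dense (Set.range i)ᶜ) : KoszulBasis i.ker 0 := by
  refine koszulBasis_of_local fun x hx => ?_
  have hrange : (i.ker.support : Set X) = Set.range i := by
    rw [Scheme.Hom.support_ker]
    exact i.isClosedEmbedding.isClosed_range.closure_eq
  obtain ⟨z, rfl⟩ := hrange.le hx
  obtain ⟨U, hzU, -, rs, hk, hker⟩ := hi.2 z
  have hne : rs ≠ [] := by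
    rintro rfl
    obtain ⟨y, hyU, hy⟩ := (dense_iff_inter_open.1 hdense) U.1 U.1.isOpen ⟨_, hzU⟩
    refine hy (hrange.le ?_)
    show y ∈ i.ker.support
    rw [Scheme.IdealSheafData.mem_support_iff_of_mem hyU, Scheme.Hom.ker_apply, hker, Ideal.ofList_nil]
    simp
  obtain ⟨n, f, -, hspan, hf⟩ := exists_family_of_list rs hne hk
  exact ⟨U, n, f, hzU, Nat.zero_le _, ((i.ker_apply U).trans hker).trans hspan, hf⟩

theorem koszulBasis_of_codim [IsClosedImmersion i] {k : ℕ} (hi : RegImm.IsRegularImmersionOfCodim .regular (k + 1) i) :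
    KoszulBasis i.ker k := by
  refine koszulBasis_of_local fun x hx => ?_
  have hrange : (i.ker.support : Set X) = Set.range i := by
    rw [Scheme.Hom.support_ker]
    exact i.isClosedEmbedding.isClosed_range.closure_eq
  obtain ⟨z, rfl⟩ := hrange.le hx
  obtain ⟨U, hzU, -, rs, hlen, hreg, hker⟩ := hi.2 z
  obtain ⟨n, f, hn, hspan, hf⟩ := exists_family_of_list rs
    (List.ne_nil_of_length_eq_add_one hlen) (isKoszulRegularSeq_of_isRegular hreg)
  exact ⟨U, n, f, hzU, by omega, ((i.ker_apply U).trans hker).trans hspan, hf⟩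

theorem koszulBasis_of_conormal (hi : Mor2.IsRegularClosedImmersion i) {d : ℕ} (hd : 1 ≤ d)
    (hC : FlatMod.IsFinLocFreeOfRank d (Omega.conormal i)) : KoszulBasis i.ker 0 := by
  haveI := hi.1
  refine koszulBasis_of_local fun x hx => ?_
  have hrange : (i.ker.support : Set X) = Set.range i := by
    rw [Scheme.Hom.support_ker]
    exact i.isClosedEmbedding.isClosed_range.closure_eq
  obtain ⟨z, rfl⟩ := hrange.le hx
  obtain ⟨U, hU, hzU, rs, hreg, hker⟩ := hi.2 z
  have hne : rs ≠ [] := by
    rintro rfl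
    rw [Ideal.ofList_nil] at hker
    haveI := subsingleton_stalk_idealMod ⟨U, hU⟩ hker hzU
    haveI : Coh.IsQCoh (Omega.conormal i) := LocFreeLib.isQCoh_of_isFinLocFreeOfRank hC
    obtain ⟨B⟩ := FlatMor12.FlatFun.exists_basis_stalk_of_freeNear (Omega.conormal i) (x := z) (hC z)
    haveI : Subsingleton ((DerSch.stalkFunctor X (i z)).obj (ClSub.idealMod i.ker)) :=
      inferInstanceAs (Subsingleton ((ClSub.idealMod i.ker).presheaf.stalk (i z)))
    have e := ((ModStalk.pullbackStalkIso i z).app (ClSub.idealMod i.ker)).toLinearEquiv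
    letI := (i.stalkMap z).hom.toAlgebra
    haveI : Subsingleton ((ModuleCat.extendScalars (i.stalkMap z).hom).obj
        ((DerSch.stalkFunctor X (i z)).obj (ClSub.idealMod i.ker))) :=
      subsingleton_of_forall_eq 0 fun t => by
        induction t using TensorProduct.induction_on with
        | zero => rfl
        | tmul a b =>
          rw [Subsingleton.elim b 0]
          exact TensorProduct.tmul_zero _ _
        | add a b ha hb =>
          rw [ha, hb]
          exact add_zero _
    haveI : Subsingleton ((Omega.conormal i).presheaf.stalk z) :=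
      ⟨fun a b => e.injective (@Subsingleton.elim ((ModuleCat.extendScalars (i.stalkMap z).hom).obj
        ((DerSch.stalkFunctor X (i z)).obj (ClSub.idealMod i.ker))) _ _ _)⟩
    exact B.ne_zero ⟨0, hd⟩ (Subsingleton.elim _ _)
  obtain ⟨n, f, -, hspan, hf⟩ := exists_family_of_list rs hne (isKoszulRegularSeq_of_isRegular hreg)
  exact ⟨⟨U, hU⟩, n, f, hzU, Nat.zero_le _, hker.trans hspan, hf⟩

end producers

variable {b : X' ⟶ X} (hb : BlowUp.IsBlowUp b I) {k : ℕ} (hI : KoszulBasis I k)

include hb hI in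
theorem isIso_unitMap : IsIso (StMod.unitMap b) := by
  let T : TwistData (I.comap b) (Coh.structureModule X') (-((0 : ℕ) : ℤ)) := twistO (I.comap b)
  refine isIso_of_section hb hI 0 (Nat.zero_le _) T (1 : Γ(X', ⊤)) (fun W a _ _ => ?_) _ fun V r => ?_
  · exact (map_one (X'.presheaf.map (homOfLE le_top).op).hom).trans (pow_zero a).symm
  · show (b.app V).hom r = (show Γ(X', b ⁻¹ᵁ V) from (b.app V).hom r) *
      (X'.presheaf.map (homOfLE le_top).op).hom 1
    rw [map_one]
    exact (mul_one _).symm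

/-- The unit at the structure sheaf is the comparison of structure sheaves, up to an isomorphism. -/
theorem isIso_unit_structureModule (b : X' ⟶ X) [IsIso (StMod.unitMap b)] :
    IsIso ((Scheme.Modules.pullbackPushforwardAdjunction b).unit.app (Coh.structureModule X)) := by
  have := StMod.opensMap_final b
  let p : (Scheme.Modules.pullback b).obj (Coh.structureModule X) ⟶ Coh.structureModule X' :=
    SheafOfModules.pullbackObjUnitToUnit b.toRingCatSheafHom
  haveI : IsIso p := inferInstanceAs (IsIso (SheafOfModules.pullbackObjUnitToUnit b.toRingCatSheafHom))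
  have h : (Scheme.Modules.pullbackPushforwardAdjunction b).homEquiv _ _ p = StMod.unitMap b :=
    SheafOfModules.pullbackPushforwardAdjunction_homEquiv_pullbackObjUnitToUnit b.toRingCatSheafHom
  rw [Adjunction.homEquiv_unit] at h
  haveI : IsIso ((Scheme.Modules.pullbackPushforwardAdjunction b).unit.app (Coh.structureModule X) ≫
      (Scheme.Modules.pushforward b).map p) := h ▸ inferInstance
  exact IsIso.of_isIso_comp_right _ ((Scheme.Modules.pushforward b).map p)

end Groth.Agent.BlowUpCoh
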