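import Groth.Agent.BlowUpCoh.Regular

/-!
# Sections of the powers of the exceptional ideal
-/

set_option autoImplicit false
set_option backward.isDefEq.respectTransparency.types false
set_option linter.style.haveILetI false

universe u

open CategoryTheory CategoryTheory.Limits AlgebraicGeometry TopologicalSpace Opposite
open Groth.Agent.Coherent Groth.Agent.CAlgH.KoszulRegular Groth.Agent.PicLib

namespace Groth.Agent.BlowUpCoh

variable {A : Type u} [CommRing A] {n : ℕ} (f : Fin (n + 1) → A)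

/-- A combination of monomials of degree `≥ m` lies in the `m`-th power of the ideal. -/
theorem mem_pow_of_mem_D {m : ℕ} (t : Fin 0 → Fin (n + 1)) {r : A}
    (h : algebraMap A (Af f t) r ∈ D f (m : ℤ) t) : r ∈ Ideal.span (Set.range f) ^ m := by
  have key : ∀ x : Laurent A (n + 1), x ∈ U (img t) (m : ℤ) →
      phi f (Af f t) x ∈ (Ideal.span (Set.range f) ^ m).map (algebraMap A (Af f t)) := by
    intro x hx
    classical
    rw [← AddMonoidAlgebra.sum_coeff_single x, Finsupp.sum, map_sum]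
    refine Ideal.sum_mem _ fun a ha => ?_
    rw [phi_single, Algebra.smul_def]
    refine Ideal.mul_mem_left _ _ ?_
    have hmem : a ∈ expSet (img t) (m : ℤ) := by
      by_contra hc
      exact Finsupp.mem_support_iff.1 ha (mem_U.1 hx a hc)
    obtain ⟨hpos, hdeg⟩ := hmem
    have hpos' : ∀ j, 0 ≤ a j := fun j => hpos j fun hj => by
      obtain ⟨i, -⟩ := mem_img.1 hj
      exact i.elim0
    obtain ⟨c, rfl⟩ : ∃ c : Fin (n + 1) → ℕ, (fun j => (c j : ℤ)) = a :=
      ⟨fun j => (a j).toNat, funext fun j => Int.toNat_of_nonneg (hpos' j)⟩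
    rw [fpow_natCast]
    refine Ideal.mem_map_of_mem _ (Ideal.pow_le_pow_right (I := Ideal.span (Set.range f)) (n := ∑ j, c j) ?_ ?_)
    · exact_mod_cast (show (m : ℤ) ≤ ∑ j, (c j : ℤ) from hdeg)
    · rw [← Finset.prod_pow_eq_pow_sum]
      refine Ideal.prod_mem_prod fun j _ => Ideal.pow_mem_pow ?_ _
      exact Ideal.subset_span ⟨j, rfl⟩
  obtain ⟨x, hx, hxr⟩ := h
  have h1 := key x hx
  rw [hxr, IsLocalization.algebraMap_mem_map_algebraMap_iff (Submonoid.powers (∏ i, f (t i)))] at h1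
  obtain ⟨_, ⟨e, rfl⟩, he⟩ := h1
  simpa using he

section Local

variable {X X' : Scheme.{u}} [IsAffine X] {I : X.IdealSheafData} (b : X' ⟶ X) [X'.IsSeparated]
  {n : ℕ} (f : Fin (n + 1) → Γ(X, ⊤)) (hb : BlowUp.IsBlowUp b I)
  (hspan : I.ideal (topAff X) = Ideal.span (Set.range f)) (hf : KReg f)

include hb hspan hf in
/-- A function of the base lying in a power of the exceptional ideal lies in the power of the ideal. -/
theorem mem_pow_of_section {m : ℕ} {r : Γ(X, ⊤)}
    (h : ∀ (W : X'.affineOpens), (b.appLE ⊤ W.1 le_top).hom r ∈ ((I.comap b) ^ m).ideal W) :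
    r ∈ Ideal.span (Set.range f) ^ m := by
  have hm : -(n : ℤ) ≤ (m : ℤ) := by omega
  have hmem : ∀ s : Fin 1 → Fin (n + 1), algebraMap Γ(X, ⊤) (Af f s) r ∈ D f (m : ℤ) s := fun s => by
    obtain ⟨hg, hn⟩ := gen_spec b f hb hspan s (k := s 0) (mem_img.2 ⟨0, rfl⟩)
    have h1 := h (WA b f hb hspan s)
    rw [Scheme.IdealSheafData.ideal_pow, Pi.pow_apply, hg, Ideal.span_singleton_pow] at h1
    obtain ⟨c, hc⟩ := Ideal.mem_span_singleton'.1 h1
    have h2 := congrArg (rho b f hb hspan s) hc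
    rw [map_mul, map_pow, rho_gen, rho_appLE, ← fpow_single] at h2
    rw [← h2]
    have h3 := mul_mem_D f (rho_mem b f hb hspan s c) (fpow_single_mem_D f s (m : ℤ))
    simp only [zero_add] at h3
    exact h3
  obtain ⟨y, hy, hyc⟩ := exists_dA_eq f hf hm (q := 0) (fun s => algebraMap Γ(X, ⊤) (Af f s) r) hmem
    (fun w => by simp [dA, Fin.sum_univ_two])
  obtain ⟨r', hr'⟩ : ∃ r', algebraMap Γ(X, ⊤) (Af f (Fin.elim0 : Fin 0 → Fin (n + 1))) r' = y Fin.elim0 := by
    obtain ⟨r', ⟨_, e, rfl⟩, hre⟩ := IsLocalization.exists_mk'_eq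
      (Submonoid.powers (∏ i, f ((Fin.elim0 : Fin 0 → Fin (n + 1)) i))) (y Fin.elim0)
    refine ⟨r', ?_⟩
    rw [← hre, IsLocalization.eq_mk'_iff_mul_eq, ← map_mul]
    simp
  have hy' : ∀ t : Fin 0 → Fin (n + 1), y t = algebraMap Γ(X, ⊤) (Af f t) r' := fun t => by
    rw [Subsingleton.elim t Fin.elim0, hr']
  have e0 := eq_zero_of_dA_zero f hf (m := 0) (by omega)
    (fun t => algebraMap Γ(X, ⊤) (Af f t) (r - r'))
    (fun t => by rw [D_zero_eq_top f le_rfl t]; trivial) (fun s => by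
      have h4 := hyc s
      rw [dA, Fintype.sum_subsingleton _ (0 : Fin 1), Fin.val_zero, pow_zero, one_smul] at h4 ⊢
      rw [hy', AlgHom.commutes] at h4
      rw [AlgHom.commutes, map_sub, h4, sub_self]) Fin.elim0
  refine mem_pow_of_mem_D f Fin.elim0 ?_
  rw [map_sub, sub_eq_zero] at e0
  rw [e0, hr']
  exact hy _

end Local

end Groth.Agent.BlowUpCoh
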