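import Groth.Agent.BlowUpCoh.Local
import Groth.Agent.FlatMor12.IdealModGen
import Groth.Agent.AmpleLib.Twist

/-!
# Twists by powers of an effective Cartier ideal, and restriction to opens
-/

set_option autoImplicit false
set_option backward.isDefEq.respectTransparency.types false

universe u

open CategoryTheory CategoryTheory.Limits AlgebraicGeometry TopologicalSpace Opposite
open Groth.Agent.Coherent Groth.Agent.PicLib Groth.Agent.AmpleLib
open Groth.Agent.BlowUpLib (mem_nonZeroDivisors_of_eff)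

namespace Groth.Agent.BlowUpCoh

local notation "rs" => Groth.Agent.ModPairLib.res

variable {Y : Scheme.{u}} (J : Y.IdealSheafData)

/-- An element of `J` on an affine open as a section of the ideal module. -/
theorem exists_idealMod_section (W : Y.affineOpens) {a : Γ(Y, W.1)} (ha : a ∈ J.ideal W) :
    ∃ k : Γ(ClSub.idealMod J, W.1), (ClSub.idealModι J).app W.1 k = a :=
  (mem_range_idealModι J W.1 a).2 (RingHom.mem_ker.1 ((J.ker_subschemeι_app W).symm ▸ ha))

theorem idealModι_mem (W : Y.affineOpens) (k : Γ(ClSub.idealMod J, W.1)) :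
    (show Γ(Y, W.1) from (ClSub.idealModι J).app W.1 k) ∈ J.ideal W := by
  rw [← J.ker_subschemeι_app W, RingHom.mem_ker]
  exact (mem_range_idealModι J W.1 _).1 ⟨k, rfl⟩

theorem idealModι_injective (W : Y.Opens) : Function.Injective ((ClSub.idealModι J).app W) := by
  have := mono_idealModι J
  exact app_injective_of_mono (ClSub.idealModι J) W

variable {J} in
theorem mem_nonZeroDivisors_pow {W : Y.affineOpens} {a : Γ(Y, W.1)} (hn : a ∈ nonZeroDivisors Γ(Y, W.1)) (m : ℕ) :
    a ^ m ∈ nonZeroDivisors Γ(Y, W.1) := pow_mem hn m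

/-- The ideal `J ^ m` is a power of exponent `m`, by dividing by the power of a generator. -/
theorem exists_twistPow_spec (m : ℕ) : ∃ T : TwistData J (ClSub.idealMod (J ^ m)) (m : ℤ),
    ∀ (W : Y.affineOpens) (a : Γ(Y, W.1)), J.ideal W = Ideal.span {a} → a ∈ nonZeroDivisors Γ(Y, W.1) →
      ∀ x, T.toFun W a x * a ^ m = (show Γ(Y, W.1) from (ClSub.idealModι (J ^ m)).app W.1 x) := by
  classical
  have hex : ∀ (W : Y.affineOpens) (a : Γ(Y, W.1)), J.ideal W = Ideal.span {a} →
      ∀ x : Γ(ClSub.idealMod (J ^ m), W.1), ∃ t : Γ(Y, W.1),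
        t * a ^ m = (show Γ(Y, W.1) from (ClSub.idealModι (J ^ m)).app W.1 x) := fun W a ha x => by
    have h := idealModι_mem (J ^ m) W x
    rw [Scheme.IdealSheafData.ideal_pow, Pi.pow_apply, ha, Ideal.span_singleton_pow] at h
    exact Ideal.mem_span_singleton'.1 h
  let F : ∀ (W : Y.affineOpens), Γ(Y, W.1) → Γ(ClSub.idealMod (J ^ m), W.1) →+ Γ(Y, W.1) := fun W a =>
    if h : J.ideal W = Ideal.span {a} ∧ a ∈ nonZeroDivisors Γ(Y, W.1) then
      AddMonoidHom.mk' (fun x => (hex W a h.1 x).choose) fun x y => by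
        refine (mul_cancel_right_mem_nonZeroDivisors (mem_nonZeroDivisors_pow h.2 m)).1 ?_
        rw [(hex W a h.1 (x + y)).choose_spec, add_mul, (hex W a h.1 x).choose_spec, (hex W a h.1 y).choose_spec]
        exact map_add _ x y
    else 0
  have hF : ∀ W a, J.ideal W = Ideal.span {a} → a ∈ nonZeroDivisors Γ(Y, W.1) → ∀ x,
      F W a x * a ^ m = (show Γ(Y, W.1) from (ClSub.idealModι (J ^ m)).app W.1 x) := fun W a ha hn x => by
    simp only [F, dif_pos (And.intro ha hn), AddMonoidHom.mk'_apply]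
    exact (hex W a ha x).choose_spec
  refine ⟨⟨F, fun W a ha hn => ⟨fun x y h => idealModι_injective (J ^ m) W.1 ?_, fun t => ?_⟩,
    fun W V h a x ha hn => ?_, fun W a r x ha hn => ?_, fun W a u x ha hn => ?_⟩, hF⟩
  · refine (hF W a ha hn x).symm.trans (Eq.trans ?_ (hF W a ha hn y))
    rw [h]
  · obtain ⟨k, hk⟩ := exists_idealMod_section (J ^ m) W (a := t * a ^ m) (by
      rw [Scheme.IdealSheafData.ideal_pow, Pi.pow_apply, ha, Ideal.span_singleton_pow]
      exact Ideal.mul_mem_left _ _ (Ideal.mem_span_singleton_self _))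
    exact ⟨k, (mul_cancel_right_mem_nonZeroDivisors (mem_nonZeroDivisors_pow hn m)).1 ((hF W a ha hn k).trans hk)⟩
  · have ha' := ModPairLib.ideal_restrict J h ha
    have hn' := ModPairLib.res_mem_nonZeroDivisors h hn
    refine (mul_cancel_right_mem_nonZeroDivisors (mem_nonZeroDivisors_pow hn' m)).1 ?_
    rw [hF V _ ha' hn', ← map_pow, ← map_mul, hF W a ha hn]
    exact (app_resM (ClSub.idealModι (J ^ m)) h x).symm
  · refine (mul_cancel_right_mem_nonZeroDivisors (mem_nonZeroDivisors_pow hn m)).1 ?_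
    rw [hF W a ha hn, mul_assoc, hF W a ha hn, Scheme.Modules.Hom.app_smul]
    rfl
  · have ha' : J.ideal W = Ideal.span {(u : Γ(Y, W.1)) * a} := by
      rw [ha, Ideal.span_singleton_mul_left_unit u.isUnit]
    have hn' : (u : Γ(Y, W.1)) * a ∈ nonZeroDivisors Γ(Y, W.1) := mul_mem u.isUnit.mem_nonZeroDivisors hn
    refine (mul_cancel_right_mem_nonZeroDivisors (mem_nonZeroDivisors_pow hn m)).1 ?_
    rw [hF W a ha hn, zpow_natCast, Units.val_pow_eq_pow_val, mul_right_comm, ← mul_pow, mul_comm,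
      hF W _ ha' hn']

/-- The ideal `J ^ m` is a power of exponent `m`. -/
theorem exists_twistPow (m : ℕ) : Nonempty (TwistData J (ClSub.idealMod (J ^ m)) (m : ℤ)) :=
  ⟨(exists_twistPow_spec J m).choose⟩

/-- An inverse of the ideal module is a power of exponent `-1`. -/
theorem exists_twistInv {L : Y.Modules} (hL : ClSub.IsInverseOf L (ClSub.idealMod J)) :
    Nonempty (TwistData J L (-1)) := by
  classical
  obtain ⟨e⟩ := hL
  let sec : ∀ (W : Y.affineOpens) (a : Γ(Y, W.1)), Γ(ClSub.idealMod J, W.1) := fun W a =>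
    if h : a ∈ J.ideal W then (exists_idealMod_section J W h).choose else 0
  have hsec : ∀ (W : Y.affineOpens) (a : Γ(Y, W.1)), J.ideal W = Ideal.span {a} →
      (ClSub.idealModι J).app W.1 (sec W a) = a := fun W a ha => by
    have hmem : a ∈ J.ideal W := ha.ge (Ideal.mem_span_singleton_self a)
    simp only [sec, dif_pos hmem]
    exact (exists_idealMod_section J W hmem).choose_spec
  let F : ∀ (W : Y.affineOpens), Γ(Y, W.1) → Γ(L, W.1) →+ Γ(Y, W.1) := fun W a =>
    AddMonoidHom.mk' (fun x => (show Γ(Y, W.1) from e.hom.app W.1 (tmul x (sec W a)))) fun x y => by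
      rw [tmul_add_left]
      exact map_add _ _ _
  refine ⟨⟨F, fun W a ha hn => ?_, fun W V h a x ha hn => ?_, fun W a r x ha hn => ?_, fun W a u x ha hn => ?_⟩⟩
  · have hreg : IsLeftRegular a := fun b c (h : a * b = a * c) => sub_eq_zero.1
      ((mem_nonZeroDivisors_iff.1 hn).2 _ (by rw [sub_mul, mul_comm b, mul_comm c, h, sub_self]))
    have hg := FlatMor12.IdealModGen.bijective_smul_of_affine_gen J W.2 (hsec W a ha) hreg ha
    have h1 := bijective_tmul_gen (M := L) hg W.1 le_rfl
    simp only [resM_self] at h1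
    have h2 : Function.Bijective (e.hom.app W.1) := ConcreteCategory.bijective_of_isIso _
    exact h2.comp h1
  · have ha' := ModPairLib.ideal_restrict J h ha
    show rs h (show Γ(Y, W.1) from e.hom.app W.1 (tmul x (sec W a))) =
      (show Γ(Y, V.1) from e.hom.app V.1 (tmul (resM L h x) (sec V (rs h a))))
    have hk : sec V (rs h a) = resM _ h (sec W a) := by
      refine idealModι_injective J V.1 ?_
      rw [hsec V _ ha', app_resM, hsec W a ha]
      rfl
    rw [hk, ← resM_tmul, app_resM]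
    rfl
  · show (show Γ(Y, W.1) from e.hom.app W.1 (tmul (r • x) (sec W a))) = r * _
    rw [tmul_smul_left, Scheme.Modules.Hom.app_smul]
    rfl
  · have ha' : J.ideal W = Ideal.span {(u : Γ(Y, W.1)) * a} := by
      rw [ha, Ideal.span_singleton_mul_left_unit u.isUnit]
    have hk : sec W ((u : Γ(Y, W.1)) * a) = (u : Γ(Y, W.1)) • sec W a := by
      refine idealModι_injective J W.1 ?_
      rw [hsec W _ ha', Scheme.Modules.Hom.app_smul, hsec W a ha]
      rfl
    show (show Γ(Y, W.1) from e.hom.app W.1 (tmul x (sec W a))) = _ *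
      (show Γ(Y, W.1) from e.hom.app W.1 (tmul x (sec W ((u : Γ(Y, W.1)) * a))))
    rw [hk, tmul_smul_right, Scheme.Modules.Hom.app_smul, zpow_neg_one]
    exact (u.inv_mul_cancel_left _).symm

variable {J} {M : Y.Modules} {m : ℤ}

theorem appLE_ι (U : Y.Opens) (W : (U : Scheme.{u}).affineOpens)
    (h : W.1 ≤ U.ι ⁻¹ᵁ (U.ι ''ᵁ W.1)) (a : Γ(Y, U.ι ''ᵁ W.1)) :
    (U.ι.appLE (U.ι ''ᵁ W.1) W.1 h).hom a = a := by
  have : U.ι.appLE (U.ι ''ᵁ W.1) W.1 h = (U.ι.appIso W.1).hom := (Scheme.Hom.appIso_hom' U.ι W.1).symm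
  rw [this, Scheme.Opens.ι_appIso]
  rfl

/-- An open of an open subscheme as an affine open of the ambient scheme. -/
noncomputable abbrev imageAff (U : Y.Opens) (W : (U : Scheme.{u}).affineOpens) : Y.affineOpens :=
  ⟨U.ι ''ᵁ W.1, W.2.image_of_isOpenImmersion U.ι⟩

theorem ideal_comap_ι (U : Y.Opens) (W : (U : Scheme.{u}).affineOpens) :
    (J.comap U.ι).ideal W = (J.ideal (imageAff U W) : Ideal Γ(Y, U.ι ''ᵁ W.1)) := by
  have e : W.1 ≤ U.ι ⁻¹ᵁ (U.ι ''ᵁ W.1) := (Scheme.Hom.preimage_image_eq U.ι W.1).ge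
  rw [ProjLib.comap_ideal_eq J U.ι (imageAff U W) W e]
  have : (U.ι.appLE (U.ι ''ᵁ W.1) W.1 e).hom = RingHom.id _ := RingHom.ext fun x => appLE_ι U W e x
  show (J.ideal (imageAff U W)).map (U.ι.appLE (U.ι ''ᵁ W.1) W.1 e).hom = _
  rw [this]
  exact Ideal.map_id _

/-- Twists restrict to open subschemes. -/
noncomputable def TwistData.restrict (T : TwistData J M m) (U : Y.Opens) :
    TwistData (J.comap U.ι) (M.restrict U.ι) m where
  toFun W a := T.toFun (imageAff U W) a
  bij W a ha hn := T.bij (imageAff U W) a ((ideal_comap_ι U W).symm.trans ha) hn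
  natural W V h a x ha hn := T.natural (imageAff U W) (imageAff U V) (U.ι.image_mono h) a x
    ((ideal_comap_ι U W).symm.trans ha) hn
  smul W a r x ha hn := by
    refine Eq.trans ?_ (T.smul (imageAff U W) a r x ((ideal_comap_ι U W).symm.trans ha) hn)
    refine congrArg (T.toFun (imageAff U W) a) ?_
    show ((U.ι.appIso W.1).inv r) • (show Γ(M, U.ι ''ᵁ W.1) from x) = _
    rw [Scheme.Opens.ι_appIso]
    rfl
  units W a u x ha hn := T.units (imageAff U W) a u x ((ideal_comap_ι U W).symm.trans ha) hn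

/-- Change of the ideal along an equality. -/
def TwistData.congrIdeal {J' : Y.IdealSheafData} (T : TwistData J M m) (h : J = J') : TwistData J' M m where
  toFun := T.toFun
  bij W a ha hn := T.bij W a (h ▸ ha) hn
  natural W V hVW a x ha hn := T.natural W V hVW a x (h ▸ ha) hn
  smul W a r x ha hn := T.smul W a r x (h ▸ ha) hn
  units W a u x ha hn := T.units W a u x (h ▸ ha) hn

end Groth.Agent.BlowUpCoh
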