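import Mathlib

/-!
# The Čech complex of the blowing up of affine space in the origin

Everything is described by Laurent monomials: on the chart attached to a set `σ` of coordinates the
`m`-th power of the exceptional ideal has as a basis the monomials `t ^ a` with `a j ≥ 0` off `σ` and
total degree `≥ m`.
-/

set_option autoImplicit false

universe u

open Finset

namespace Groth.Agent.BlowUpCoh

/-- Laurent polynomials in `r` variables. -/
abbrev Laurent (A : Type u) [CommRing A] (r : ℕ) := AddMonoidAlgebra A (Fin r → ℤ)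

variable {A : Type u} [CommRing A] {r : ℕ}

/-- The monomial of exponent `a`. -/
noncomputable abbrev mon (a : Fin r → ℤ) : Laurent A r := AddMonoidAlgebra.single a 1

/-- Polynomials act on Laurent polynomials. -/
noncomputable scoped instance laurentAlgebra : Algebra (MvPolynomial (Fin r) A) (Laurent A r) :=
  (MvPolynomial.aeval fun l => mon (A := A) (Pi.single l 1)).toRingHom.toAlgebra

theorem algebraMap_X (l : Fin r) :
    algebraMap (MvPolynomial (Fin r) A) (Laurent A r) (MvPolynomial.X l) = mon (Pi.single l 1) :=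
  MvPolynomial.aeval_X _ l

theorem algebraMap_C (c : A) :
    algebraMap (MvPolynomial (Fin r) A) (Laurent A r) (MvPolynomial.C c) = algebraMap A (Laurent A r) c :=
  MvPolynomial.aeval_C _ c

scoped instance : IsScalarTower A (MvPolynomial (Fin r) A) (Laurent A r) :=
  IsScalarTower.of_algebraMap_eq fun c => (algebraMap_C c).symm

theorem X_smul (l : Fin r) (x : Laurent A r) :
    (MvPolynomial.X l : MvPolynomial (Fin r) A) • x = mon (Pi.single l 1) * x := by
  rw [Algebra.smul_def, algebraMap_X]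

/-- The exponents of chart `σ` in degree `≥ m`. -/
def expSet (σ : Finset (Fin r)) (m : ℤ) : Set (Fin r → ℤ) :=
  {a | (∀ j ∉ σ, 0 ≤ a j) ∧ m ≤ ∑ j, a j}

theorem expSet_add {σ : Finset (Fin r)} {m m' : ℤ} {a b : Fin r → ℤ} (ha : a ∈ expSet σ m)
    (hb : b ∈ expSet σ m') : a + b ∈ expSet σ (m + m') := by
  refine ⟨fun j hj => ?_, ?_⟩
  · exact add_nonneg (ha.1 j hj) (hb.1 j hj)
  · rw [show ∑ j, (a + b) j = ∑ j, a j + ∑ j, b j from Finset.sum_add_distrib]
    exact add_le_add ha.2 hb.2

theorem expSet_mono {σ τ : Finset (Fin r)} (h : σ ⊆ τ) (m : ℤ) :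
    (expSet σ m : Set (Fin r → ℤ)) ⊆ expSet τ m :=
  fun _ ha => ⟨fun j hj => ha.1 j fun hjσ => hj (h hjσ), ha.2⟩

theorem single_mem_expSet (σ : Finset (Fin r)) (l : Fin r) : Pi.single l 1 ∈ expSet σ 0 := by
  refine ⟨fun j _ => ?_, ?_⟩
  · rcases eq_or_ne j l with rfl | h
    · simp
    · simp [h]
  · simp

theorem mul_mem_supported {σ : Finset (Fin r)} {m m' : ℤ} {x y : Laurent A r}
    (hx : x ∈ AddMonoidAlgebra.supported A A (expSet σ m))
    (hy : y ∈ AddMonoidAlgebra.supported A A (expSet σ m')) :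
    x * y ∈ AddMonoidAlgebra.supported A A (expSet σ (m + m')) := by
  classical
  rw [AddMonoidAlgebra.mem_supported] at hx hy ⊢
  refine (Finset.coe_subset.2 (AddMonoidAlgebra.support_coeff_mul_subset x y)).trans ?_
  rw [Finset.coe_add]
  rintro _ ⟨a, ha, b, hb, rfl⟩
  exact expSet_add (hx ha) (hy hb)

theorem mon_mem_supported {σ : Finset (Fin r)} {m : ℤ} {a : Fin r → ℤ} (ha : a ∈ expSet σ m) :
    (mon a : Laurent A r) ∈ AddMonoidAlgebra.supported A A (expSet σ m) := by
  rw [AddMonoidAlgebra.supported_eq_span_single]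
  exact Submodule.subset_span ⟨a, ha, rfl⟩

/-- The sections over the chart `σ` of the `m`-th power of the exceptional ideal. -/
noncomputable def U (σ : Finset (Fin r)) (m : ℤ) : Submodule (MvPolynomial (Fin r) A) (Laurent A r) where
  carrier := (AddMonoidAlgebra.supported A A (expSet σ m) : Set (Laurent A r))
  add_mem' hx hy := add_mem hx hy
  zero_mem' := zero_mem _
  smul_mem' p x hx := by
    induction p using MvPolynomial.induction_on generalizing x with
    | C c =>
      rw [Algebra.smul_def, algebraMap_C, ← Algebra.smul_def]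
      exact Submodule.smul_mem _ c hx
    | add p q hp hq => rw [add_smul]; exact add_mem (hp x hx) (hq x hx)
    | mul_X p l hp =>
      rw [mul_smul, X_smul]
      refine hp _ ?_
      have := mul_mem_supported (mon_mem_supported (A := A) (single_mem_expSet σ l)) hx
      rwa [zero_add] at this

theorem mem_U {σ : Finset (Fin r)} {m : ℤ} {x : Laurent A r} :
    x ∈ U σ m ↔ ∀ a ∉ expSet σ m, x.coeff a = 0 :=
  AddMonoidAlgebra.mem_supported'

theorem U_mono {σ τ : Finset (Fin r)} (h : σ ⊆ τ) (m : ℤ) :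
    (U σ m : Submodule (MvPolynomial (Fin r) A) (Laurent A r)) ≤ U τ m :=
  fun _ hx => AddMonoidAlgebra.supported_mono (expSet_mono h m) hx

theorem mon_mem_U {σ : Finset (Fin r)} {m : ℤ} {a : Fin r → ℤ} (ha : a ∈ expSet σ m) :
    (mon a : Laurent A r) ∈ U σ m := mon_mem_supported ha

/-- The set of values of a tuple. -/
def img {q : ℕ} (s : Fin q → Fin r) : Finset (Fin r) := univ.image s

theorem img_comp_subset {q : ℕ} (s : Fin (q + 1) → Fin r) (i : Fin (q + 1)) :
    img (s ∘ i.succAbove) ⊆ img s := fun x hx => by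
  simp only [img, Finset.mem_image] at hx ⊢
  obtain ⟨j, -, rfl⟩ := hx
  exact ⟨_, Finset.mem_univ _, rfl⟩

theorem mem_img {q : ℕ} {s : Fin q → Fin r} {l : Fin r} : l ∈ img s ↔ ∃ i, s i = l := by
  simp [img]

/-- The alternating sum of the faces. -/
noncomputable def dL (q : ℕ) : ((Fin q → Fin r) → Laurent A r) →ₗ[MvPolynomial (Fin r) A]
    ((Fin (q + 1) → Fin r) → Laurent A r) :=
  LinearMap.pi fun s => ∑ i : Fin (q + 1), ((-1 : ℤ) ^ (i : ℕ)) • LinearMap.proj (s ∘ i.succAbove)

theorem dL_apply (q : ℕ) (c : (Fin q → Fin r) → Laurent A r) (s : Fin (q + 1) → Fin r) :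
    dL q c s = ∑ i : Fin (q + 1), ((-1 : ℤ) ^ (i : ℕ)) • c (s ∘ i.succAbove) := by
  simp [dL]

variable (A r) in
/-- The cochains of degree `q - 1`; degree `0` is the augmentation. -/
noncomputable def Cu (m : ℤ) (q : ℕ) :
    Submodule (MvPolynomial (Fin r) A) ((Fin q → Fin r) → Laurent A r) :=
  Submodule.pi Set.univ fun s => U (img s) m

theorem mem_Cu {m : ℤ} {q : ℕ} {c : (Fin q → Fin r) → Laurent A r} :
    c ∈ Cu A r m q ↔ ∀ s, c s ∈ U (img s) m :=
  ⟨fun h s => h s trivial, fun h s _ => h s⟩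

theorem dL_mem {m : ℤ} {q : ℕ} {c : (Fin q → Fin r) → Laurent A r} (hc : c ∈ Cu A r m q) :
    dL q c ∈ Cu A r m (q + 1) := mem_Cu.2 fun s => by
  rw [dL_apply]
  exact sum_mem fun i _ => zsmul_mem (U_mono (img_comp_subset s i) m (mem_Cu.1 hc _)) _

section Homotopy

variable {n : ℕ}

/-- A nonnegative coordinate, if there is one. -/
noncomputable def pick (a : Fin (n + 1) → ℤ) : Fin (n + 1) :=
  open Classical in if h : ∃ k, 0 ≤ a k then h.choose else 0

theorem nonneg_pick {m : ℤ} (hm : -(n : ℤ) ≤ m) {a : Fin (n + 1) → ℤ} (ha : m ≤ ∑ j, a j) :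
    0 ≤ a (pick a) := by
  classical
  have h : ∃ k, 0 ≤ a k := by
    by_contra hne
    push Not at hne
    have h1 : ∑ j, a j ≤ ∑ _j : Fin (n + 1), (-1 : ℤ) := Finset.sum_le_sum fun j _ => by
      have := hne j
      omega
    simp at h1
    omega
  rw [pick, dif_pos h]
  exact h.choose_spec

/-- The part of exponents picking `k`. -/
noncomputable def part (k : Fin (n + 1)) (x : Laurent A (n + 1)) : Laurent A (n + 1) :=
  .ofCoeff (x.coeff.filter fun a => pick a = k)

/-- The contracting homotopy. -/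
noncomputable def hL (q : ℕ) (c : (Fin (q + 1) → Fin (n + 1)) → Laurent A (n + 1)) :
    (Fin q → Fin (n + 1)) → Laurent A (n + 1) :=
  fun s => ∑ k, part k (c (Fin.cons k s))

theorem coeff_hL (q : ℕ) (c : (Fin (q + 1) → Fin (n + 1)) → Laurent A (n + 1))
    (s : Fin q → Fin (n + 1)) (a : Fin (n + 1) → ℤ) :
    (hL q c s).coeff a = (c (Fin.cons (pick a) s)).coeff a := by
  classical
  simp [hL, part, AddMonoidAlgebra.coeff_sum, Finsupp.filter_apply]

theorem hL_mem {m : ℤ} (hm : -(n : ℤ) ≤ m) {q : ℕ}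
    {c : (Fin (q + 1) → Fin (n + 1)) → Laurent A (n + 1)} (hc : c ∈ Cu A (n + 1) m (q + 1)) :
    hL q c ∈ Cu A (n + 1) m q := mem_Cu.2 fun s => mem_U.2 fun a ha => by
  rw [coeff_hL]
  by_contra hne
  have hmem : a ∈ expSet (img (Fin.cons (pick a) s)) m :=
    of_not_not fun h => hne (mem_U.1 (mem_Cu.1 hc _) a h)
  refine ha ⟨fun j hj => ?_, hmem.2⟩
  by_cases hjk : j = pick a
  · exact hjk ▸ nonneg_pick hm hmem.2
  · refine hmem.1 j fun hjm => ?_
    obtain ⟨i, hi⟩ := mem_img.1 hjm
    induction i using Fin.cases with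
    | zero => exact hjk (by rw [Fin.cons_zero] at hi; exact hi.symm)
    | succ i => exact hj (mem_img.2 ⟨i, by rw [Fin.cons_succ] at hi; exact hi⟩)

theorem dL_cons (q : ℕ) (c : (Fin (q + 1) → Fin r) → Laurent A r) (k : Fin r) (s : Fin (q + 1) → Fin r) :
    dL (q + 1) c (Fin.cons k s) = c s - dL q (fun t => c (Fin.cons k t)) s := by
  have h0 : (Fin.cons k s : Fin (q + 2) → Fin r) ∘ (0 : Fin (q + 2)).succAbove = s := by
    funext i
    simp
  have hsucc : ∀ i : Fin (q + 1), (Fin.cons k s : Fin (q + 2) → Fin r) ∘ i.succ.succAbove =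
      Fin.cons k (s ∘ i.succAbove) := fun i => by
    funext j
    induction j using Fin.cases with
    | zero => simp
    | succ j => simp
  rw [dL_apply, Fin.sum_univ_succ (n := q + 1), dL_apply, sub_eq_add_neg, ← Finset.sum_neg_distrib, h0,
    Fin.val_zero, pow_zero, one_smul]
  refine congrArg _ (Finset.sum_congr rfl fun i _ => ?_)
  rw [hsucc, Fin.val_succ, pow_succ, mul_neg_one, neg_smul]

theorem dL_cons_zero (c : (Fin 0 → Fin r) → Laurent A r) (k : Fin r) (s : Fin 0 → Fin r) :
    dL 0 c (Fin.cons k s) = c s := by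
  rw [dL_apply, Fintype.sum_subsingleton _ (0 : Fin 1), Fin.val_zero, pow_zero, one_smul]
  exact congrArg c (Subsingleton.elim _ _)

theorem dL_dL (q : ℕ) (c : (Fin q → Fin r) → Laurent A r) : dL (q + 1) (dL q c) = 0 := by
  funext s
  rw [← Fin.cons_self_tail s, dL_cons]
  induction q with
  | zero =>
    rw [show (fun t => dL 0 c (Fin.cons (s 0) t)) = c from funext fun t => dL_cons_zero c _ t, sub_self]
    rfl
  | succ q ih =>
    rw [show (fun t => dL (q + 1) c (Fin.cons (s 0) t)) = c - dL q (fun t => c (Fin.cons (s 0) t)) from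
      funext fun t => dL_cons q c _ t, map_sub, Pi.sub_apply, sub_sub_cancel]
    have h := ih (fun t => c (Fin.cons (s 0) t)) (Fin.cons (Fin.tail s 0) (Fin.tail (Fin.tail s)))
    rw [Fin.cons_zero, Fin.tail_cons, ← dL_cons, Fin.cons_self_tail] at h
    exact h

theorem homotopy (q : ℕ) (c : (Fin (q + 1) → Fin (n + 1)) → Laurent A (n + 1)) :
    dL q (hL q c) + hL (q + 1) (dL (q + 1) c) = c := by
  classical
  funext s
  refine AddMonoidAlgebra.coeff_injective (Finsupp.ext fun a => ?_)
  rw [Pi.add_apply, AddMonoidAlgebra.coeff_add, Finsupp.add_apply, coeff_hL, dL_cons,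
    AddMonoidAlgebra.coeff_sub, Finsupp.sub_apply, dL_apply, dL_apply]
  simp only [AddMonoidAlgebra.coeff_sum, Finsupp.coe_finsetSum, Finset.sum_apply,
    AddMonoidAlgebra.coeff_smul_apply, coeff_hL]
  abel

theorem homotopy_zero (c : (Fin 0 → Fin (n + 1)) → Laurent A (n + 1)) :
    hL 0 (dL 0 c) = c := by
  classical
  funext s
  refine AddMonoidAlgebra.coeff_injective (Finsupp.ext fun a => ?_)
  rw [coeff_hL, dL_cons_zero]

/-- The differential on cochains. -/
noncomputable def dC (m : ℤ) (q : ℕ) :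
    Cu A r m q →ₗ[MvPolynomial (Fin r) A] Cu A r m (q + 1) :=
  (dL q).restrict fun _ h => dL_mem h

@[simp] theorem coe_dC {m : ℤ} {q : ℕ} (c : Cu A r m q) :
    (dC m q c : (Fin (q + 1) → Fin r) → Laurent A r) = dL q c.1 := rfl

theorem injective_dC_zero {m : ℤ} : Function.Injective (dC (A := A) (r := n + 1) m 0) := fun x y h =>
  Subtype.ext (by
    rw [← homotopy_zero x.1, ← homotopy_zero y.1]
    exact congrArg (fun z : Cu A (n + 1) m 1 => hL 0 z.1) h)

theorem exact_dC {m : ℤ} (hm : -(n : ℤ) ≤ m) (q : ℕ) :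
    Function.Exact (dC (A := A) (r := n + 1) m q) (dC m (q + 1)) := fun c => by
  constructor
  · intro h
    refine ⟨⟨_, hL_mem hm c.2⟩, Subtype.ext ?_⟩
    have h1 := homotopy q c.1
    have h0 : dL (q + 1) c.1 = 0 := congrArg Subtype.val h
    have hz : hL (q + 1) (0 : (Fin (q + 2) → Fin (n + 1)) → Laurent A (n + 1)) = 0 := by
      funext s
      simp [hL, part, Finsupp.filter_zero]
    rwa [h0, hz, add_zero] at h1
  · rintro ⟨y, rfl⟩
    exact Subtype.ext (dL_dL q y.1)

end Homotopy

end Groth.Agent.BlowUpCoh
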